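import Groth.Prelude.Def_ModSite
import Groth.Agent.QCAlg.Over
import Groth.Agent.CohQC.ToSheafExact

/-!
# Sections of modules on ringed spaces: local spans, independence, exactness
-/

set_option autoImplicit false
set_option linter.style.haveILetI false
set_option backward.isDefEq.respectTransparency false
set_option backward.isDefEq.respectTransparency.types false

universe u

open CategoryTheory Limits TopologicalSpace Opposite

noncomputable section

namespace Groth.Agent.RSFin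

variable {X : TopCat.{u}} {O : TopCat.Sheaf CommRingCat.{u} X}

/-- Scalars on an open. -/
abbrev sc (O : TopCat.Sheaf CommRingCat.{u} X) (V : Opens X) : Type u := O.obj.obj (op V)

instance moduleSect (F : ModSite.Mod O) (V : Opens X) : Module (sc O V) (ModSite.sect F V) :=
  inferInstanceAs (Module ((ModSite.ringSh O).obj.obj (op V)) (F.val.obj (op V)))

/-- Restriction of scalars. -/
def rsR {W V : Opens X} (h : W ≤ V) : sc O V →+* sc O W :=
  (O.obj.map (homOfLE h).op).hom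

/-- Restriction of sections. -/
def rs (F : ModSite.Mod O) {W V : Opens X} (h : W ≤ V) : ModSite.sect F V →+ ModSite.sect F W where
  toFun t := F.val.map (homOfLE h).op t
  map_zero' := map_zero _
  map_add' := map_add _

theorem rs_smul (F : ModSite.Mod O) {W V : Opens X} (h : W ≤ V) (a : sc O V)
    (t : ModSite.sect F V) : rs F h (a • t) = rsR h a • rs F h t :=
  F.val.map_smul (homOfLE h).op a t

theorem rs_rs (F : ModSite.Mod O) {W' W V : Opens X} (h' : W' ≤ W) (h : W ≤ V)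
    (t : ModSite.sect F V) : rs F h' (rs F h t) = rs F (h'.trans h) t := by
  show F.val.map (homOfLE h').op (F.val.map (homOfLE h).op t) = F.val.map ((homOfLE h).op ≫ (homOfLE h').op) t
  rw [PresheafOfModules.map_comp_apply]

@[simp]
theorem rs_self (F : ModSite.Mod O) {V : Opens X} (h : V ≤ V) (t : ModSite.sect F V) :
    rs F h t = t := by
  show F.val.map (homOfLE h).op t = t
  rw [show (homOfLE h).op = 𝟙 (op V) from rfl, PresheafOfModules.map_id]
  rfl

theorem rsR_rsR {W' W V : Opens X} (h' : W' ≤ W) (h : W ≤ V) (a : sc O V) :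
    rsR h' (rsR h a) = rsR (h'.trans h) a := by
  show (O.obj.map _ ≫ O.obj.map _).hom a = (O.obj.map _).hom a
  rw [← Functor.map_comp]
  rfl

@[simp]
theorem rsR_self {V : Opens X} (h : V ≤ V) (a : sc O V) : rsR h a = a := by
  show (O.obj.map (homOfLE h).op).hom a = a
  rw [show (homOfLE h).op = 𝟙 (op V) from rfl, CategoryTheory.Functor.map_id]
  rfl

theorem rs_sum_smul (F : ModSite.Mod O) {W V : Opens X} (h : W ≤ V) {ι : Type*} [Fintype ι]
    (c : ι → sc O V) (s : ι → ModSite.sect F V) :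
    rs F h (∑ i, c i • s i) = ∑ i, rsR h (c i) • rs F h (s i) := by
  rw [map_sum]
  exact Finset.sum_congr rfl fun i _ => rs_smul F h _ _

/-- The map on sections. -/
def ap {F G : ModSite.Mod O} (φ : F ⟶ G) (V : Opens X) :
    ModSite.sect F V →ₗ[sc O V] ModSite.sect G V :=
  (φ.val.app (op V)).hom

theorem ap_rs {F G : ModSite.Mod O} (φ : F ⟶ G) {W V : Opens X} (h : W ≤ V)
    (t : ModSite.sect F V) : ap φ W (rs F h t) = rs G h (ap φ V t) :=
  PresheafOfModules.naturality_apply φ.val _ t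

theorem ap_comp {F G H : ModSite.Mod O} (φ : F ⟶ G) (ψ : G ⟶ H) (V : Opens X)
    (t : ModSite.sect F V) : ap (φ ≫ ψ) V t = ap ψ V (ap φ V t) := rfl

theorem ap_zero {F G : ModSite.Mod O} (V : Opens X) (t : ModSite.sect F V) :
    ap (0 : F ⟶ G) V t = 0 := rfl

theorem ap_id {F : ModSite.Mod O} (V : Opens X) (t : ModSite.sect F V) :
    ap (𝟙 F) V t = t := rfl

/-- Sections which agree locally are equal. -/
theorem eq_of_locally (F : ModSite.Mod O) {V : Opens X} (a b : ModSite.sect F V)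
    (h : ∀ x ∈ V, ∃ (W : Opens X) (hW : W ≤ V), x ∈ W ∧ rs F hW a = rs F hW b) : a = b := by
  choose W hW hx he using h
  let P : TopCat.Sheaf AddCommGrpCat.{u} X := (SheafOfModules.toSheaf (ModSite.ringSh O)).obj F
  exact P.eq_of_locally_eq' (fun x : V => W x.1 x.2) V (fun x => homOfLE (hW x.1 x.2))
    (fun x hxV => Opens.mem_iSup.2 ⟨⟨x, hxV⟩, hx x hxV⟩) a b (fun x => he x.1 x.2)

theorem eq_zero_of_locally (F : ModSite.Mod O) {V : Opens X} (a : ModSite.sect F V)
    (h : ∀ x ∈ V, ∃ (W : Opens X) (hW : W ≤ V), x ∈ W ∧ rs F hW a = 0) : a = 0 :=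
  eq_of_locally F a 0 fun x hx => by
    obtain ⟨W, hW, hxW, e⟩ := h x hx
    exact ⟨W, hW, hxW, by rw [e, map_zero]⟩

theorem sc_eq_of_locally {V : Opens X} (a b : sc O V)
    (h : ∀ x ∈ V, ∃ (W : Opens X) (hW : W ≤ V), x ∈ W ∧ rsR hW a = rsR hW b) : a = b := by
  choose W hW hx he using h
  exact O.eq_of_locally_eq' (fun x : V => W x.1 x.2) V (fun x => homOfLE (hW x.1 x.2))
    (fun x hxV => Opens.mem_iSup.2 ⟨⟨x, hxV⟩, hx x hxV⟩) a b (fun x => he x.1 x.2)

theorem epi_locally {F G : ModSite.Mod O} (φ : F ⟶ G) [Epi φ] {V : Opens X}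
    (t : ModSite.sect G V) {x : X} (hx : x ∈ V) :
    ∃ (W : Opens X) (hW : W ≤ V) (a : ModSite.sect F W), x ∈ W ∧ ap φ W a = rs G hW t := by
  haveI : Sheaf.IsLocallySurjective ((SheafOfModules.toSheaf (ModSite.ringSh O)).map φ) :=
    (Sheaf.isLocallySurjective_iff_epi' AddCommGrpCat.{u} _).mpr inferInstance
  obtain ⟨W, i, hi, hxW⟩ := Presheaf.imageSieve_mem (Opens.grothendieckTopology X)
    ((SheafOfModules.toSheaf (ModSite.ringSh O)).map φ).hom (U := op V) t x hx
  obtain ⟨a, ha⟩ := hi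
  exact ⟨W, leOfHom i, a, hxW, ha⟩

theorem epi_of_locally {F G : ModSite.Mod O} (φ : F ⟶ G)
    (h : ∀ (V : Opens X) (t : ModSite.sect G V), ∀ x ∈ V,
      ∃ (W : Opens X) (hW : W ≤ V) (a : ModSite.sect F W), x ∈ W ∧ ap φ W a = rs G hW t) :
    Epi φ := by
  haveI : Sheaf.IsLocallySurjective ((SheafOfModules.toSheaf (ModSite.ringSh O)).map φ) := by
    refine ⟨fun {Y} t x hx => ?_⟩
    obtain ⟨W, hW, a, hxW, ha⟩ := h Y t x hx
    exact ⟨W, homOfLE hW, ⟨a, ha⟩, hxW⟩
  exact (SheafOfModules.toSheaf (ModSite.ringSh O)).epi_of_epi_map inferInstance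

theorem mono_of_injective {F G : ModSite.Mod O} (φ : F ⟶ G)
    (h : ∀ V : Opens X, Function.Injective (ap φ V)) : Mono φ := by
  haveI : Mono ((SheafOfModules.forget _).map φ) :=
    PresheafOfModules.mono_of_injective (fun Y => h Y.unop)
  exact (SheafOfModules.forget _).mono_of_mono_map inferInstance

theorem kernel_sections {F G : ModSite.Mod O} (φ : F ⟶ G) (V : Opens X) :
    Function.Injective (ap (kernel.ι φ) V) ∧
      ∀ t, ap φ V t = 0 → ∃ a, ap (kernel.ι φ) V a = t := by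
  let E := SheafOfModules.forget (ModSite.ringSh O) ⋙ PresheafOfModules.evaluation _ (op V)
  haveI : E.Additive := inferInstance
  haveI : PreservesLimit (parallelPair φ 0) E := inferInstance
  have hk : IsLimit (KernelFork.ofι (E.map (kernel.ι φ))
      (by rw [← E.map_comp, kernel.condition, E.map_zero])) :=
    isLimitForkMapOfIsLimit' E (kernel.condition φ) (kernelIsKernel φ)
  refine ⟨?_, fun t ht => ?_⟩
  · haveI : Mono (E.map (kernel.ι φ)) := mono_of_isLimit_fork hk
    exact (ModuleCat.mono_iff_injective _).mp this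
  · let e := hk.conePointUniqueUpToIso (ModuleCat.kernelIsLimit (E.map φ))
    refine ⟨e.inv.hom ⟨t, ht⟩, ?_⟩
    exact congrArg (fun q : ModuleCat.of _ (LinearMap.ker (E.map φ).hom) ⟶ E.obj F => q.hom ⟨t, ht⟩)
      (hk.conePointUniqueUpToIso_inv_comp (ModuleCat.kernelIsLimit (E.map φ)) WalkingParallelPair.zero)

theorem injective_of_mono {F G : ModSite.Mod O} (φ : F ⟶ G) [Mono φ] (V : Opens X) :
    Function.Injective (ap φ V) := by
  haveI : Mono ((SheafOfModules.forget _).map φ) := inferInstance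
  exact PresheafOfModules.injective_of_mono ((SheafOfModules.forget _).map φ) (op V)

theorem exact_locally (S : ShortComplex (ModSite.Mod O)) (hS : S.Exact) {V : Opens X}
    (t : ModSite.sect S.X₂ V) (ht : ap S.g V t = 0) {x : X} (hx : x ∈ V) :
    ∃ (W : Opens X) (hW : W ≤ V) (a : ModSite.sect S.X₁ W), x ∈ W ∧ ap S.f W a = rs S.X₂ hW t := by
  obtain ⟨b, hb⟩ := (kernel_sections S.g V).2 t ht
  haveI : Epi (kernel.lift S.g S.f S.zero) := hS.epi_kernelLift
  obtain ⟨W, hW, a, hxW, ha⟩ := epi_locally (kernel.lift S.g S.f S.zero) b hx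
  refine ⟨W, hW, a, hxW, ?_⟩
  have e : ap (kernel.lift S.g S.f S.zero ≫ kernel.ι S.g) W a = ap S.f W a := by rw [kernel.lift_ι]
  rw [← e, ap_comp, ha, ap_rs, hb]

/-- The span, over `W`, of sections given over `U`. -/
def spanOn (F : ModSite.Mod O) {U W : Opens X} (h : W ≤ U) {ι : Type*}
    (s : ι → ModSite.sect F U) : Submodule (sc O W) (ModSite.sect F W) :=
  Submodule.span (sc O W) (Set.range fun i => rs F h (s i))

theorem rs_mem_spanOn (F : ModSite.Mod O) {U W' W : Opens X} (h : W ≤ U) (h' : W' ≤ W) {ι : Type*}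
    (s : ι → ModSite.sect F U) {t : ModSite.sect F W} (ht : t ∈ spanOn F h s) :
    rs F h' t ∈ spanOn F (h'.trans h) s := by
  induction ht using Submodule.span_induction with
  | mem x hx => obtain ⟨i, rfl⟩ := hx; rw [rs_rs]; exact Submodule.subset_span ⟨i, rfl⟩
  | zero => rw [map_zero]; exact Submodule.zero_mem _
  | add x y _ _ hx hy => rw [map_add]; exact Submodule.add_mem _ hx hy
  | smul a x _ hx => rw [rs_smul]; exact Submodule.smul_mem _ _ hx

theorem mem_spanOn_iff (F : ModSite.Mod O) {U W : Opens X} (h : W ≤ U) {ι : Type*} [Fintype ι]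
    (s : ι → ModSite.sect F U) (t : ModSite.sect F W) :
    t ∈ spanOn F h s ↔ ∃ c : ι → sc O W, ∑ i, c i • rs F h (s i) = t :=
  Submodule.mem_span_range_iff_exists_fun _

/-- The sections `s` generate `F` over `U`. -/
def Gen (F : ModSite.Mod O) {U : Opens X} {ι : Type*} (s : ι → ModSite.sect F U) : Prop :=
  ∀ ⦃V : Opens X⦄ (h : V ≤ U) (t : ModSite.sect F V), ∀ x ∈ V,
    ∃ (W : Opens X) (hW : W ≤ V), x ∈ W ∧ rs F hW t ∈ spanOn F (hW.trans h) s

/-- The sections `s` are linearly independent over every open contained in `U`. -/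
def Indep (F : ModSite.Mod O) {U : Opens X} {ι : Type*} [Fintype ι]
    (s : ι → ModSite.sect F U) : Prop :=
  ∀ ⦃V : Opens X⦄ (h : V ≤ U) (c : ι → sc O V), ∑ i, c i • rs F h (s i) = 0 → c = 0

/-- The vectors `r` generate the relations between the sections `s`. -/
def Rel (F : ModSite.Mod O) {U : Opens X} {ι κ : Type*} [Fintype ι]
    (s : ι → ModSite.sect F U) (r : κ → ι → sc O U) : Prop :=
  (∀ k, ∑ i, r k i • s i = 0) ∧
    ∀ ⦃V : Opens X⦄ (h : V ≤ U) (c : ι → sc O V), ∑ i, c i • rs F h (s i) = 0 → ∀ x ∈ V,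
      ∃ (W : Opens X) (hW : W ≤ V), x ∈ W ∧
        (fun i => rsR hW (c i)) ∈ Submodule.span (sc O W)
          (Set.range fun k => fun i => rsR (hW.trans h) (r k i))

theorem Gen.mono {F : ModSite.Mod O} {U U' : Opens X} (hU : U' ≤ U) {ι : Type*}
    {s : ι → ModSite.sect F U} (hs : Gen F s) : Gen F (fun i => rs F hU (s i)) := by
  intro V h t x hx
  obtain ⟨W, hW, hxW, hm⟩ := hs (h.trans hU) t x hx
  refine ⟨W, hW, hxW, ?_⟩
  simpa only [spanOn, rs_rs] using hm

theorem Gen.exists_fun {F : ModSite.Mod O} {U : Opens X} {ι : Type*} [Fintype ι]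
    {s : ι → ModSite.sect F U} (hs : Gen F s) {V : Opens X} (h : V ≤ U) (t : ModSite.sect F V)
    {x : X} (hx : x ∈ V) :
    ∃ (W : Opens X) (hW : W ≤ V) (c : ι → sc O W), x ∈ W ∧
      ∑ i, c i • rs F (hW.trans h) (s i) = rs F hW t := by
  obtain ⟨W, hW, hxW, hm⟩ := hs h t x hx
  obtain ⟨c, hc⟩ := (mem_spanOn_iff _ _ _ _).1 hm
  exact ⟨W, hW, c, hxW, hc⟩

theorem Indep.mono {F : ModSite.Mod O} {U U' : Opens X} (hU : U' ≤ U) {ι : Type*} [Fintype ι]
    {s : ι → ModSite.sect F U} (hs : Indep F s) : Indep F (fun i => rs F hU (s i)) :=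
  fun V h c hc => hs (h.trans hU) c (by simpa only [rs_rs] using hc)

/-- Shrink around a point so that finitely many local conditions hold simultaneously. -/
theorem exists_common {ι : Type*} [Finite ι] {U : Opens X} {x : X} (hx : x ∈ U)
    (P : ι → ∀ W : Opens X, W ≤ U → Prop)
    (hmono : ∀ (i : ι) (W W' : Opens X) (h : W ≤ U) (h' : W' ≤ W), P i W h → P i W' (h'.trans h))
    (h : ∀ i, ∃ (W : Opens X) (hW : W ≤ U), x ∈ W ∧ P i W hW) :
    ∃ (W : Opens X) (hW : W ≤ U), x ∈ W ∧ ∀ i, P i W hW := by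
  haveI := Fintype.ofFinite ι
  choose W hW hxW hP using h
  refine ⟨U ⊓ Finset.univ.inf W, inf_le_left, ⟨hx, ?_⟩, fun i => ?_⟩
  · show x ∈ ((Finset.univ.inf W : Opens X) : Set X)
    rw [Opens.coe_finset_inf]
    simp [hxW]
  · exact hmono i (W i) _ (hW i) (inf_le_right.trans (Finset.inf_le (Finset.mem_univ i))) (hP i)

theorem exists_coeffs {F : ModSite.Mod O} {U : Opens X} {ι κ : Type*} [Fintype ι] [Finite κ]
    {s : ι → ModSite.sect F U} (hs : Gen F s) (t : κ → ModSite.sect F U) {x : X} (hx : x ∈ U) :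
    ∃ (W : Opens X) (hW : W ≤ U) (a : κ → ι → sc O W), x ∈ W ∧
      ∀ k, ∑ i, a k i • rs F hW (s i) = rs F hW (t k) := by
  obtain ⟨W, hW, hxW, h⟩ := exists_common hx
    (fun k W hW => ∃ c : ι → sc O W, ∑ i, c i • rs F hW (s i) = rs F hW (t k))
    (fun k W W' h h' ⟨c, hc⟩ => ⟨fun i => rsR h' (c i), by
      rw [← rs_rs F h' h, ← hc, rs_sum_smul]; simp only [rs_rs]⟩)
    (fun k => by
      obtain ⟨W, hW, c, hxW, hc⟩ := hs.exists_fun le_rfl (t k) hx
      exact ⟨W, hW, hxW, c, hc⟩)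
  choose a ha using h
  exact ⟨W, hW, a, hxW, ha⟩

theorem exists_lifts {F G : ModSite.Mod O} (φ : F ⟶ G) [Epi φ] {U : Opens X} {ι : Type*} [Finite ι]
    (s : ι → ModSite.sect G U) {x : X} (hx : x ∈ U) :
    ∃ (W : Opens X) (hW : W ≤ U) (σ : ι → ModSite.sect F W), x ∈ W ∧
      ∀ i, ap φ W (σ i) = rs G hW (s i) := by
  obtain ⟨W, hW, hxW, h⟩ := exists_common hx
    (fun i W hW => ∃ a, ap φ W a = rs G hW (s i))
    (fun i W W' h h' ⟨a, ha⟩ => ⟨rs F h' a, by rw [ap_rs, ha, rs_rs]⟩)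
    (fun i => by
      obtain ⟨W, hW, a, hxW, ha⟩ := epi_locally φ (s i) hx
      exact ⟨W, hW, hxW, a, ha⟩)
  choose σ hσ using h
  exact ⟨W, hW, σ, hxW, hσ⟩

end Groth.Agent.RSFin
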