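import Groth.Agent.RSFin.Thms
import Groth.Agent.RSStalk.Basic
import Groth.Agent.ModSiteGro.Basic
import Mathlib.CategoryTheory.Abelian.GrothendieckCategory.Basic

/-!
# A finite type colimit is reached at a finite stage
-/

set_option autoImplicit false
set_option linter.style.haveILetI false
set_option backward.isDefEq.respectTransparency false
set_option backward.isDefEq.respectTransparency.types false

universe u

open CategoryTheory Limits TopologicalSpace Opposite

noncomputable section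

namespace Groth.Agent.RSFin

variable {X : TopCat.{u}} {O : TopCat.Sheaf CommRingCat.{u} X}

/-- A leg of a cocone. -/
abbrev leg {I : Type u} [SmallCategory I] {D : I ⥤ ModSite.Mod O} (c : Cocone D) (i : I) :
    D.obj i ⟶ c.pt := c.ι.app i

theorem leg_w {I : Type u} [SmallCategory I] {D : I ⥤ ModSite.Mod O} (c : Cocone D) {i j : I}
    (f : i ⟶ j) : D.map f ≫ leg c j = leg c i := c.w f

theorem exists_stage_germ {I : Type u} [SmallCategory I] [IsFiltered I] (D : I ⥤ ModSite.Mod O)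
    (c : Cocone D) (hc : IsColimit c) {x : X} {V : Opens X} (hx : x ∈ V)
    (t : ModSite.sect c.pt V) :
    ∃ (i : I) (W : Opens X) (hW : W ≤ V) (a : ModSite.sect (D.obj i) W),
      x ∈ W ∧ ap (leg c i) W a = rs c.pt hW t := by
  let G : ModSite.Mod O ⥤ AddCommGrpCat.{u} :=
    SheafOfModules.toSheaf.{u} (ModSite.ringSh O) ⋙ (pt x).sheafFiber (A := AddCommGrpCat.{u})
  haveI : PreservesColimitsOfShape I G := inferInstance
  obtain ⟨i, a, ha⟩ := Types.jointly_surjective_of_isColimit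
    (isColimitOfPreserves (G ⋙ forget AddCommGrpCat.{u}) hc) (gm c.pt hx t)
  obtain ⟨V', hx', a', ha'⟩ := exists_gm (D.obj i) x (a : stM (D.obj i) x)
  have e : gm c.pt hx' (ap (leg c i) V' a') = gm c.pt hx t := by
    exact ((gm_map (leg c i) hx' a').symm.trans (congrArg _ ha')).trans ha
  obtain ⟨W, hW, hxW, heq⟩ := eq_of_gm_eq c.pt (V := V ⊓ V') (x := x) ⟨hx, hx'⟩
    (a := rs c.pt inf_le_right (ap (leg c i) V' a')) (b := rs c.pt inf_le_left t)
    (by rw [gm_rs, gm_rs, e])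
  refine ⟨i, W, hW.trans inf_le_left, rs _ (hW.trans inf_le_right) a', hxW, ?_⟩
  rw [rs_rs, rs_rs] at heq
  rw [ap_rs, heq]

theorem exists_epi_stage [CompactSpace X] {I : Type u} [SmallCategory I] [IsFiltered I]
    (D : I ⥤ ModSite.Mod O) (c : Cocone D) (hc : IsColimit c)
    [SheafOfModules.IsFiniteType (R := ModSite.ringSh O) c.pt] : ∃ i : I, Epi (leg c i) := by
  classical
  have hloc : ∀ x : X, ∃ (i : I) (W : Opens X) (n : ℕ) (s : Fin n → ModSite.sect c.pt W),
      x ∈ W ∧ Gen c.pt s ∧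
        ∀ k, ∃ a : ModSite.sect (D.obj i) W, ap (leg c i) W a = s k := by
    intro x
    obtain ⟨U, n, s, hxU, hs⟩ := exists_gen_of_isFiniteType c.pt x
    choose i V hV a hxV ha using fun k => exists_stage_germ D c hc hxU (s k)
    obtain ⟨j, hj⟩ := IsFiltered.sup_objs_exists (Finset.univ.image i)
    have f := fun k => hj (Finset.mem_image_of_mem i (Finset.mem_univ k))
    obtain ⟨W, hW, hxW, hP⟩ := exists_common hxU
      (fun k W hW => ∃ b, ap (leg c j) W b = rs c.pt hW (s k))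
      (fun k W W' h h' ⟨b, hb⟩ => ⟨rs _ h' b, by rw [ap_rs, hb, rs_rs]⟩)
      (fun k => ⟨V k, hV k, hxV k, ap (D.map (f k).some) (V k) (a k), by
        rw [← ap_comp, leg_w, ha]⟩)
    exact ⟨j, W, n, fun k => rs c.pt hW (s k), hxW, hs.mono hW, hP⟩
  choose i W n s hxW hs ha using hloc
  obtain ⟨T, hT⟩ := isCompact_univ.elim_finite_subcover (fun x : X => (W x : Set X))
    (fun x => (W x).isOpen) (fun x _ => Set.mem_iUnion.2 ⟨x, hxW x⟩)
  obtain ⟨j, hj⟩ := IsFiltered.sup_objs_exists (T.image i)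
  refine ⟨j, epi_of_locally _ fun V y z hz => ?_⟩
  obtain ⟨x, hxT, hzx⟩ : ∃ x ∈ T, z ∈ W x := by
    obtain ⟨x, hx⟩ := Set.mem_iUnion.1 (hT (Set.mem_univ z))
    obtain ⟨hxT, hzx⟩ := Set.mem_iUnion.1 hx
    exact ⟨x, hxT, hzx⟩
  obtain ⟨f⟩ := hj (Finset.mem_image_of_mem i hxT)
  obtain ⟨W', hW', b, hzW', hb⟩ := (hs x).exists_fun (V := W x ⊓ V) inf_le_left
    (rs c.pt inf_le_right y) (x := z) ⟨hzx, hz⟩
  choose a hak using ha x
  refine ⟨W', hW'.trans inf_le_right,
    ∑ k, b k • ap (D.map f) W' (rs (D.obj (i x)) (hW'.trans inf_le_left) (a k)), hzW', ?_⟩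
  rw [map_sum, ← rs_rs c.pt hW' (inf_le_right : W x ⊓ V ≤ V), ← hb]
  refine Finset.sum_congr rfl fun k _ => ?_
  rw [map_smul, ← ap_comp, leg_w, ap_rs, hak]

theorem exists_iso_stage [CompactSpace X] {I : Type u} [SmallCategory I] [IsFiltered I]
    (D : I ⥤ ModSite.Mod O) (c : Cocone D) (hc : IsColimit c)
    [SheafOfModules.IsFiniteType (R := ModSite.ringSh O) c.pt]
    (hm : ∀ (i j : I) (f : i ⟶ j), Mono (D.map f)) : ∃ i : I, IsIso (leg c i) := by
  obtain ⟨i, hi⟩ := exists_epi_stage D c hc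
  haveI := ModSiteGro.isGrothendieckAbelian (ModSite.ringSh O)
  haveI : ∀ (i j : I) (f : i ⟶ j), Mono (D.map f) := hm
  haveI : Mono (leg c i) := hc.mono_ι_app_of_isFiltered i
  exact ⟨i, isIso_of_mono_of_epi _⟩

end Groth.Agent.RSFin
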