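import Groth.Agent.RSFin.Local

/-!
# Finite presentation on ringed spaces in terms of sections
-/

set_option autoImplicit false
set_option linter.style.haveILetI false
set_option backward.isDefEq.respectTransparency false
set_option backward.isDefEq.respectTransparency.types false

universe u

open CategoryTheory Limits TopologicalSpace Opposite

noncomputable section

namespace Groth.Agent.RSFin

variable {X : TopCat.{u}} {O : TopCat.Sheaf CommRingCat.{u} X}

theorem ovr_kernel_sections {U : Opens X} {N N' : SheafOfModules.{u} ((ModSite.ringSh O).over U)}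
    (p : N ⟶ N') {V : Opens X} (h : V ≤ U) :
    Function.Injective (QCAlg.mapSec (kernel.ι p) h) ∧
      ∀ t, QCAlg.mapSec p h t = 0 → ∃ a, QCAlg.mapSec (kernel.ι p) h a = t := by
  let E := SheafOfModules.forget ((ModSite.ringSh O).over U) ⋙
    PresheafOfModules.evaluation _ (op (QCAlg.ov h))
  haveI : E.Additive := inferInstance
  haveI : PreservesLimit (parallelPair p 0) E := inferInstance
  have hk : IsLimit (KernelFork.ofι (E.map (kernel.ι p))
      (by rw [← E.map_comp, kernel.condition, E.map_zero])) :=
    isLimitForkMapOfIsLimit' E (kernel.condition p) (kernelIsKernel p)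
  refine ⟨?_, fun t ht => ?_⟩
  · haveI : Mono (E.map (kernel.ι p)) := mono_of_isLimit_fork hk
    exact (ModuleCat.mono_iff_injective _).mp this
  · let e := hk.conePointUniqueUpToIso (ModuleCat.kernelIsLimit (E.map p))
    refine ⟨e.inv.hom ⟨t, ht⟩, ?_⟩
    exact congrArg (fun q : ModuleCat.of _ (LinearMap.ker (E.map p).hom) ⟶ E.obj N => q.hom ⟨t, ht⟩)
      (hk.conePointUniqueUpToIso_inv_comp (ModuleCat.kernelIsLimit (E.map p)) WalkingParallelPair.zero)

theorem eq_sum_co {U V : Opens X} {ι : Type u} [Fintype ι] [DecidableEq ι] (h : V ≤ U)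
    (t : QCAlg.sec (SheafOfModules.free (R := (ModSite.ringSh O).over U) ι) h) :
    ∑ i, (co i h t : QCAlg.scal (R := ModSite.ringSh O) h) • QCAlg.freeBasis ι i h = t := by
  obtain ⟨c, rfl⟩ := exists_comb h t
  simp only [co_comb]

theorem exists_rel_of_isFinitePresentation (F : ModSite.Mod O)
    [hF : SheafOfModules.IsFinitePresentation (R := ModSite.ringSh O) F] (x : X) :
    ∃ (U : Opens X) (ι κ : Type) (_ : Fintype ι) (_ : Fintype κ) (s : ι → ModSite.sect F U)
      (r : κ → ι → sc O U), x ∈ U ∧ Gen F s ∧ Rel F s r := by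
  obtain ⟨q, hq⟩ := hF.exists_quasicoherentData
  obtain ⟨i, hi⟩ := exists_mem_of_coversTop q.coversTop x
  haveI := hq.isFinite_presentation i
  obtain ⟨ι, κ, hι, hκ, s, r, hs, hr⟩ := exists_rel_of_presentation F (q.presentation i)
  exact ⟨q.X i, ι, κ, hι, hκ, s, r, hi, hs, hr⟩

section Present

variable (F : ModSite.Mod O) {U : Opens X} {ι κ : Type u} [Fintype ι] [Fintype κ]
  (s : ι → ModSite.sect F U) (r : κ → ι → sc O U)

/-- The map of free modules given by relations. -/
def relHom : SheafOfModules.free (R := (ModSite.ringSh O).over U) κ ⟶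
    SheafOfModules.free (R := (ModSite.ringSh O).over U) ι :=
  (SheafOfModules.free (R := (ModSite.ringSh O).over U) ι).freeHomEquiv.symm fun k =>
    QCAlg.sectionsOf _ (∑ i, (r k i : QCAlg.scal (R := ModSite.ringSh O) (le_refl U)) •
      QCAlg.freeBasis ι i (le_refl U))

variable {F s r}

theorem relHom_comp (hr : Rel F s r) : relHom r ≫ homOfSec F s = 0 := by
  refine (ovr F U).freeHomEquiv.injective (funext fun k => ?_)
  ext ⟨W⟩
  have h : W.left ≤ U := leOfHom W.hom
  have key : QCAlg.mapSec (relHom r ≫ homOfSec F s) h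
      (QCAlg.freeBasis (R := ModSite.ringSh O) κ k h) = 0 := by
    show QCAlg.mapSec (homOfSec F s) h (QCAlg.mapSec (relHom r) h
      (QCAlg.freeBasis (R := ModSite.ringSh O) κ k h)) = 0
    rw [relHom, QCAlg.mapSec_freeBasis, QCAlg.mapSec_rs, homOfSec_comb]
    simp only [rs_self, hr.1, map_zero]
  exact key

theorem epi_relLift (hr : Rel F s r) :
    Epi (kernel.lift (homOfSec F s) (relHom r) (relHom_comp hr)) := by
  classical
  refine QCAlg.epi_of_locally _ fun V h t x hx => ?_
  obtain ⟨hinj, -⟩ := ovr_kernel_sections (homOfSec F s) h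
  let u := QCAlg.mapSec (kernel.ι (homOfSec F s)) h t
  have hu : ∑ i, (co i h u) • rs F h (s i) = 0 := by
    rw [← homOfSec_comb, eq_sum_co]
    exact congrArg (fun q : kernel (homOfSec F s) ⟶ ovr F U => QCAlg.mapSec q h t)
      (kernel.condition _)
  obtain ⟨W, hW, hxW, hm⟩ := hr.2 h _ hu x hx
  obtain ⟨d, hd⟩ := (Submodule.mem_span_range_iff_exists_fun _).1 hm
  refine ⟨W, hW, ∑ k, (d k : QCAlg.scal (R := ModSite.ringSh O) (hW.trans h)) •
    QCAlg.freeBasis κ k (hW.trans h), hxW,
    (ovr_kernel_sections (homOfSec F s) (hW.trans h)).1 ?_⟩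
  show QCAlg.mapSec (kernel.lift _ (relHom r) (relHom_comp hr) ≫ kernel.ι _) _ _ = _
  rw [kernel.lift_ι, QCAlg.mapSec_rs, ← eq_sum_co (hW.trans h) (QCAlg.mapSec (relHom r) _ _),
    ← eq_sum_co (hW.trans h) (QCAlg.rs _ hW h u)]
  refine Finset.sum_congr rfl fun i _ => ?_
  congr 1
  rw [co_rs]
  have := congrFun hd i
  simp only [Finset.sum_apply, Pi.smul_apply, smul_eq_mul] at this
  refine Eq.trans ?_ this
  show QCAlg.mapSec (dlt i) _ (QCAlg.mapSec (relHom r) _ _) = _
  rw [map_sum, map_sum]
  refine Finset.sum_congr rfl fun k _ => ?_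
  rw [map_smul, map_smul, relHom, QCAlg.mapSec_freeBasis]
  refine congrArg (fun z : sc O W => (d k * z : sc O W)) ?_
  exact (co_rs i (hW.trans h) (le_refl U) _).trans
    (congrArg (rsR (hW.trans h)) (co_comb i (le_refl U) (r k)))

/-- A finite presentation from generators and relations. -/
def presentationOfRel (hs : Gen F s) (hr : Rel F s r) : (ovr F U).Presentation where
  generators := genSections F s hs
  relations :=
    { I := κ
      s := (kernel (genSections F s hs).π).freeHomEquiv
        (kernel.lift (homOfSec F s) (relHom r) (relHom_comp hr))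
      epi := by
        rw [Equiv.symm_apply_apply]
        exact epi_relLift hr }

theorem isFinite_presentationOfRel (hs : Gen F s) (hr : Rel F s r) :
    (presentationOfRel hs hr).IsFinite where
  isFiniteType_generators := ⟨show Finite ι from inferInstance⟩
  isFiniteType_relations := ⟨show Finite κ from inferInstance⟩

end Present

theorem Rel.reindex {F : ModSite.Mod O} {U : Opens X} {ι κ ι' κ' : Type*} [Fintype ι] [Fintype ι']
    (e : ι' ≃ ι) (f : κ' ≃ κ) {s : ι → ModSite.sect F U} {r : κ → ι → sc O U} (hr : Rel F s r) :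
    Rel F (fun i => s (e i)) (fun k i => r (f k) (e i)) := by
  refine ⟨fun k => ?_, fun V h c hc x hx => ?_⟩
  · rw [← hr.1 (f k)]
    exact e.sum_comp (fun i => r (f k) i • s i)
  · obtain ⟨W, hW, hxW, hm⟩ := hr.2 h (fun i => c (e.symm i)) (by
      rw [← hc]
      exact Fintype.sum_equiv e.symm _ _ (fun i => by simp)) x hx
    refine ⟨W, hW, hxW, ?_⟩
    have := Submodule.mem_map_of_mem
      (f := LinearMap.funLeft (sc O W) (sc O W) e) hm
    rw [Submodule.map_span, ← Set.range_comp] at this
    convert this using 1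
    · congr 1
      rw [← f.surjective.range_comp]
      rfl
    · funext i
      simp [LinearMap.funLeft]

theorem isFinitePresentation_of_forall (F : ModSite.Mod O)
    (h : ∀ x : X, ∃ (U : Opens X) (ι κ : Type) (_ : Fintype ι) (_ : Fintype κ)
      (s : ι → ModSite.sect F U) (r : κ → ι → sc O U), x ∈ U ∧ Gen F s ∧ Rel F s r) :
    SheafOfModules.IsFinitePresentation (R := ModSite.ringSh O) F := by
  choose U ι κ hι hκ s r hx hs hr using h
  let d : SheafOfModules.QuasicoherentData.{u} (R := ModSite.ringSh O) F :=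
    { I := X
      X := U
      coversTop := coversTop_of_forall fun x => ⟨x, hx x⟩
      presentation := fun x =>
        letI := hι x
        letI := hκ x
        presentationOfRel ((hs x).reindex Equiv.ulift.{u})
          ((hr x).reindex Equiv.ulift.{u} Equiv.ulift.{u}) }
  refine { exists_quasicoherentData := ⟨d, { isFinite_presentation := fun x => ?_ }⟩ }
  letI := hι x
  letI := hκ x
  exact isFinite_presentationOfRel ((hs x).reindex Equiv.ulift.{u})
    ((hr x).reindex Equiv.ulift.{u} Equiv.ulift.{u})

end Groth.Agent.RSFin
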