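import Groth.Agent.RSFin.Sect
import Groth.Prelude.Def_ModSite2

/-!
# Germs of sections of modules on ringed spaces
-/

set_option autoImplicit false
set_option linter.style.haveILetI false
set_option backward.isDefEq.respectTransparency false
set_option backward.isDefEq.respectTransparency.types false

universe u

open CategoryTheory Limits TopologicalSpace Opposite

noncomputable section

namespace Groth.Agent.RSFin

variable {X : TopCat.{u}} {O : TopCat.Sheaf CommRingCat.{u} X}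

/-- The point. -/
abbrev pt (x : X) := Opens.pointGrothendieckTopology (X := X) x

/-- The stalk of the structure sheaf. -/
abbrev stR (O : TopCat.Sheaf CommRingCat.{u} X) (x : X) : Type u := ModSite.stalkRing (pt x) O

/-- The stalk of a module. -/
abbrev stM (F : ModSite.Mod O) (x : X) : Type u := ModSite.stalkMod (pt x) F

/-- The germ of a section. -/
def gm (F : ModSite.Mod O) {x : X} {V : Opens X} (hx : x ∈ V) :
    ModSite.sect F V →+ stM F x where
  toFun t := ModSite.germ (pt x) F V ⟨⟨hx⟩⟩ t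
  map_zero' := map_zero _
  map_add' a b := map_add _ a b

/-- The germ of a function. -/
def gmR (O : TopCat.Sheaf CommRingCat.{u} X) {x : X} {V : Opens X} (hx : x ∈ V) :
    sc O V →+* stR O x :=
  ((pt x).toPresheafFiber V ⟨⟨hx⟩⟩ O.obj).hom

theorem gm_smul (F : ModSite.Mod O) {x : X} {V : Opens X} (hx : x ∈ V) (a : sc O V)
    (t : ModSite.sect F V) : gm F hx (a • t) = gmR O hx a • gm F hx t :=
  ModSite.germ_smul (pt x) F V ⟨⟨hx⟩⟩ a t

theorem gm_rs (F : ModSite.Mod O) {x : X} {W V : Opens X} (h : W ≤ V) (hx : x ∈ W)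
    (t : ModSite.sect F V) : gm F hx (rs F h t) = gm F (h hx) t :=
  (pt x).toPresheafFiber_w_apply (homOfLE h) ⟨⟨hx⟩⟩ (ModSite.toAb F).obj t

theorem gmR_rs {x : X} {W V : Opens X} (h : W ≤ V) (hx : x ∈ W) (a : sc O V) :
    gmR O hx (rsR h a) = gmR O (h hx) a :=
  (pt x).toPresheafFiber_w_apply (homOfLE h) ⟨⟨hx⟩⟩ O.obj a

theorem gm_sum_smul (F : ModSite.Mod O) {x : X} {V : Opens X} (hx : x ∈ V) {ι : Type*} [Fintype ι]
    (c : ι → sc O V) (s : ι → ModSite.sect F V) :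
    gm F hx (∑ i, c i • s i) = ∑ i, gmR O hx (c i) • gm F hx (s i) := by
  rw [map_sum]
  exact Finset.sum_congr rfl fun i _ => gm_smul F hx _ _

theorem exists_gm (F : ModSite.Mod O) (x : X) (e : stM F x) :
    ∃ (V : Opens X) (hx : x ∈ V) (t : ModSite.sect F V), gm F hx t = e := by
  obtain ⟨V, hx, t, ht⟩ := (pt x).toPresheafFiber_jointly_surjective (P := (ModSite.toAb F).obj) e
  exact ⟨V, hx.down.down, t, ht⟩

theorem exists_gmR (x : X) (e : stR O x) :
    ∃ (V : Opens X) (hx : x ∈ V) (a : sc O V), gmR O hx a = e := by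
  obtain ⟨V, hx, t, ht⟩ := (pt x).toPresheafFiber_jointly_surjective (P := O.obj) e
  exact ⟨V, hx.down.down, t, ht⟩

theorem eq_of_gm_eq (F : ModSite.Mod O) {x : X} {V : Opens X} (hx : x ∈ V) {a b : ModSite.sect F V}
    (h : gm F hx a = gm F hx b) :
    ∃ (W : Opens X) (hW : W ≤ V), x ∈ W ∧ rs F hW a = rs F hW b := by
  obtain ⟨W, i, y, -, hab⟩ :=
    ((pt x).toPresheafFiber_eq_iff' (P := (ModSite.toAb F).obj) V ⟨⟨hx⟩⟩ a b).1 h
  exact ⟨W, leOfHom i, y.down.down, hab⟩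

theorem eq_of_gmR_eq {x : X} {V : Opens X} (hx : x ∈ V) {a b : sc O V}
    (h : gmR O hx a = gmR O hx b) :
    ∃ (W : Opens X) (hW : W ≤ V), x ∈ W ∧ rsR hW a = rsR hW b := by
  obtain ⟨W, i, y, -, hab⟩ := ((pt x).toPresheafFiber_eq_iff' V ⟨⟨hx⟩⟩ a b).1 h
  exact ⟨W, leOfHom i, y.down.down, hab⟩

theorem gm_map {F G : ModSite.Mod O} (φ : F ⟶ G) {x : X} {V : Opens X} (hx : x ∈ V)
    (t : ModSite.sect F V) :
    (ModSite.stalkMap (pt x) φ).hom (gm F hx t) = gm G hx (ap φ V t) :=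
  (pt x).toPresheafFiber_naturality_apply ((SheafOfModules.toSheaf (ModSite.ringSh O)).map φ).hom V
    ⟨⟨hx⟩⟩ t

theorem exists_gms (F : ModSite.Mod O) {x : X} {U : Opens X} (hx : x ∈ U) {ι : Type*} [Finite ι]
    (e : ι → stM F x) :
    ∃ (W : Opens X) (_ : W ≤ U) (hxW : x ∈ W) (t : ι → ModSite.sect F W),
      ∀ i, gm F hxW (t i) = e i := by
  obtain ⟨W, hW, hxW, h⟩ := exists_common hx
    (fun i W _ => ∀ hxW : x ∈ W, ∃ t, gm F hxW t = e i)
    (fun i W W' _ h' hP hxW' => by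
      obtain ⟨t, ht⟩ := hP (h' hxW')
      exact ⟨rs F h' t, by rw [gm_rs, ht]⟩)
    (fun i => by
      obtain ⟨V, hxV, t, ht⟩ := exists_gm F x (e i)
      exact ⟨U ⊓ V, inf_le_left, ⟨hx, hxV⟩, fun hxW =>
        ⟨rs F inf_le_right t, by rw [gm_rs, ht]⟩⟩)
  choose t ht using fun i => h i hxW
  exact ⟨W, hW, hxW, t, ht⟩

theorem exists_rs_eq (F : ModSite.Mod O) {x : X} {U : Opens X} (hx : x ∈ U) {ι : Type*} [Finite ι]
    {a b : ι → ModSite.sect F U} (h : ∀ i, gm F hx (a i) = gm F hx (b i)) :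
    ∃ (W : Opens X) (hW : W ≤ U), x ∈ W ∧ ∀ i, rs F hW (a i) = rs F hW (b i) :=
  exists_common hx (fun i W hW => rs F hW (a i) = rs F hW (b i))
    (fun i W W' h h' e => by rw [← rs_rs F h' h, e, rs_rs]) (fun i => eq_of_gm_eq F hx (h i))

theorem exists_rsR_eq {x : X} {U : Opens X} (hx : x ∈ U) {ι : Type*} [Finite ι]
    {a b : ι → sc O U} (h : ∀ i, gmR O hx (a i) = gmR O hx (b i)) :
    ∃ (W : Opens X) (hW : W ≤ U), x ∈ W ∧ ∀ i, rsR hW (a i) = rsR hW (b i) :=
  exists_common hx (fun i W hW => rsR hW (a i) = rsR hW (b i))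
    (fun i W W' h h' e => by rw [← rsR_rsR h' h, e, rsR_rsR]) (fun i => eq_of_gmR_eq hx (h i))

theorem span_gm_of_gen (F : ModSite.Mod O) {x : X} {U : Opens X} (hx : x ∈ U) {ι : Type*}
    [Fintype ι] {s : ι → ModSite.sect F U} (hs : Gen F s) (e : stM F x) :
    ∃ a : ι → stR O x, ∑ i, a i • gm F hx (s i) = e := by
  obtain ⟨V, hxV, t, rfl⟩ := exists_gm F x e
  obtain ⟨W, hW, c, hxW, hc⟩ :=
    hs.exists_fun (V := U ⊓ V) inf_le_left (rs F inf_le_right t) (x := x) ⟨hx, hxV⟩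
  refine ⟨fun i => gmR O hxW (c i), ?_⟩
  have e := congrArg (gm F hxW) hc
  rw [gm_sum_smul] at e
  simpa only [gm_rs] using e

end Groth.Agent.RSFin
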