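import Groth.Agent.RSFin.FP
import Groth.Agent.RSFin.Germ

/-!
# Kernels, cokernels, extensions of finite type and finitely presented modules on ringed spaces
-/

set_option autoImplicit false
set_option linter.style.haveILetI false
set_option backward.isDefEq.respectTransparency false
set_option backward.isDefEq.respectTransparency.types false

universe u

open CategoryTheory Limits TopologicalSpace Opposite

noncomputable section

namespace Groth.Agent.RSFin

variable {X : TopCat.{u}} {O : TopCat.Sheaf CommRingCat.{u} X}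

theorem Rel.mono {F : ModSite.Mod O} {U U' : Opens X} (hU : U' ≤ U) {ι κ : Type*} [Fintype ι]
    {s : ι → ModSite.sect F U} {r : κ → ι → sc O U} (hr : Rel F s r) :
    Rel F (fun i => rs F hU (s i)) (fun k i => rsR hU (r k i)) := by
  refine ⟨fun k => ?_, fun V h c hc x hx => ?_⟩
  · rw [← rs_sum_smul, hr.1, map_zero]
  · obtain ⟨W, hW, hxW, hm⟩ := hr.2 (h.trans hU) c (by simpa only [rs_rs] using hc) x hx
    refine ⟨W, hW, hxW, ?_⟩
    simpa only [rsR_rsR] using hm

/-- Combining the coefficients of sections. -/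
theorem sum_comb {F : ModSite.Mod O} {V : Opens X} {ι κ : Type*} [Fintype ι] [Fintype κ]
    (c : κ → sc O V) (a : κ → ι → sc O V) (s : ι → ModSite.sect F V) :
    ∑ i, (∑ k, c k * a k i) • s i = ∑ k, c k • ∑ i, a k i • s i := by
  simp only [Finset.sum_smul, Finset.smul_sum, mul_smul]
  exact Finset.sum_comm

theorem isFiniteType_kernel {G F : ModSite.Mod O} (θ : G ⟶ F) [Epi θ]
    [SheafOfModules.IsFiniteType (R := ModSite.ringSh O) G]
    [SheafOfModules.IsFinitePresentation (R := ModSite.ringSh O) F] :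
    SheafOfModules.IsFiniteType (R := ModSite.ringSh O) (kernel θ) := by
  refine isFiniteType_of_forall _ fun x => ?_
  obtain ⟨U₁, ι, κ, _, _, s₁, r₁, hx₁, hs₁, hr₁⟩ := exists_rel_of_isFinitePresentation F x
  obtain ⟨U₂, n, t₂, hx₂, ht₂⟩ := exists_gen_of_isFiniteType G x
  let U₀ := U₁ ⊓ U₂
  have hx₀ : x ∈ U₀ := ⟨hx₁, hx₂⟩
  obtain ⟨U₃, h₃, σ₃, hx₃, hσ₃⟩ :=
    exists_lifts θ (fun i => rs F (inf_le_left : U₀ ≤ U₁) (s₁ i)) hx₀
  have hs₃ : Gen F (fun i => rs F (h₃.trans inf_le_left) (s₁ i)) := hs₁.mono _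
  obtain ⟨U, h₄, a, hx, ha⟩ :=
    exists_coeffs hs₃ (fun k => ap θ U₃ (rs G (h₃.trans inf_le_right) (t₂ k))) hx₃
  let s : ι → ModSite.sect F U := fun i => rs F ((h₄.trans h₃).trans inf_le_left) (s₁ i)
  let r : κ → ι → sc O U := fun k i => rsR ((h₄.trans h₃).trans inf_le_left) (r₁ k i)
  let t : Fin n → ModSite.sect G U := fun k => rs G ((h₄.trans h₃).trans inf_le_right) (t₂ k)
  let σ : ι → ModSite.sect G U := fun i => rs G h₄ (σ₃ i)
  have ht : Gen G t := ht₂.mono _
  have hr : Rel F s r := hr₁.mono _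
  have hσ : ∀ i, ap θ U (σ i) = s i := fun i => by
    simp only [σ, s, ap_rs, hσ₃, rs_rs]
  have hat : ∀ k, ∑ i, a k i • s i = ap θ U (t k) := fun k => by
    have := ha k
    simp only [rs_rs] at this
    rw [this, ap_rs, rs_rs, ← ap_rs]
  let v : κ ⊕ Fin n → ModSite.sect G U :=
    Sum.elim (fun k => ∑ i, r k i • σ i) (fun k => t k - ∑ i, a k i • σ i)
  have hv : ∀ j, ap θ U (v j) = 0 := by
    rintro (k | k)
    · simp only [v, Sum.elim_inl, map_sum, map_smul, hσ]
      exact hr.1 k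
    · simp only [v, Sum.elim_inr, map_sub, map_sum, map_smul, hσ, hat, sub_self]
  choose w hw using fun j => (kernel_sections θ U).2 (v j) (hv j)
  refine ⟨U, κ ⊕ Fin n, inferInstance, w, hx, fun V h y z hz => ?_⟩
  have hy0 : ap θ V (ap (kernel.ι θ) V y) = 0 := by
    rw [← ap_comp, kernel.condition]; rfl
  obtain ⟨W, hW, c, hzW, hc⟩ := ht.exists_fun h (ap (kernel.ι θ) V y) hz
  let e : ι → sc O W := fun i => ∑ k, c k * rsR (hW.trans h) (a k i)
  have he : ∑ i, e i • rs F (hW.trans h) (s i) = 0 := by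
    rw [sum_comb]
    have := congrArg (ap θ W) hc
    rw [map_sum, ap_rs, hy0, map_zero] at this
    refine Eq.trans (Finset.sum_congr rfl fun k _ => ?_) this
    rw [map_smul, ap_rs, ← hat k, rs_sum_smul]
  obtain ⟨W', hW', hzW', hm⟩ := hr.2 (hW.trans h) e he z hzW
  obtain ⟨d, hd⟩ := (Submodule.mem_span_range_iff_exists_fun _).1 hm
  have hWU : W' ≤ U := hW'.trans (hW.trans h)
  refine ⟨W', hW'.trans hW, hzW', (mem_spanOn_iff _ _ _ _).2
    ⟨Sum.elim d (fun k => rsR hW' (c k)), (kernel_sections θ W').1 ?_⟩⟩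
  rw [ap_rs, ← rs_rs G hW' hW, ← hc, rs_sum_smul, map_sum, Fintype.sum_sum_type]
  simp only [map_smul, ap_rs, hw, v, Sum.elim_inl, Sum.elim_inr, map_sub, rs_sum_smul, rs_rs,
    smul_sub, Finset.sum_sub_distrib]
  have hd' : ∀ i, ∑ k, d k * rsR hWU (r k i) = ∑ k, rsR hW' (c k) * rsR hWU (a k i) := fun i => by
    have := congrFun hd i
    simp only [Finset.sum_apply, Pi.smul_apply, smul_eq_mul] at this
    rw [this]
    simp only [e, map_sum, map_mul, rsR_rsR]
  rw [← sum_comb d, ← sum_comb (fun k => rsR hW' (c k))]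
  simp only [hd']
  abel

theorem isFinitePresentation_cokernel {G F : ModSite.Mod O} (φ : G ⟶ F)
    [SheafOfModules.IsFiniteType (R := ModSite.ringSh O) G]
    [SheafOfModules.IsFinitePresentation (R := ModSite.ringSh O) F] :
    SheafOfModules.IsFinitePresentation (R := ModSite.ringSh O) (cokernel φ) := by
  refine isFinitePresentation_of_forall _ fun x => ?_
  obtain ⟨U₁, ι, κ, _, _, s₁, r₁, hx₁, hs₁, hr₁⟩ := exists_rel_of_isFinitePresentation F x
  obtain ⟨U₂, n, t₂, hx₂, ht₂⟩ := exists_gen_of_isFiniteType G x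
  let U₀ := U₁ ⊓ U₂
  have hs₀ : Gen F (fun i => rs F (inf_le_left : U₀ ≤ U₁) (s₁ i)) := hs₁.mono _
  obtain ⟨U, h₄, a, hx, ha⟩ :=
    exists_coeffs hs₀ (fun k => ap φ U₀ (rs G inf_le_right (t₂ k))) (x := x) ⟨hx₁, hx₂⟩
  let s : ι → ModSite.sect F U := fun i => rs F (h₄.trans inf_le_left) (s₁ i)
  let r : κ → ι → sc O U := fun k i => rsR (h₄.trans inf_le_left) (r₁ k i)
  let t : Fin n → ModSite.sect G U := fun k => rs G (h₄.trans inf_le_right) (t₂ k)
  have hs : Gen F s := hs₁.mono _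
  have ht : Gen G t := ht₂.mono _
  have hr : Rel F s r := hr₁.mono _
  have hat : ∀ k, ∑ i, a k i • s i = ap φ U (t k) := fun k => by
    have := ha k
    simp only [rs_rs] at this
    rw [this, ap_rs, rs_rs, ← ap_rs]
  let π := cokernel.π φ
  refine ⟨U, ι, κ ⊕ Fin n, inferInstance, inferInstance, fun i => ap π U (s i), Sum.elim r a, hx,
    fun V h y z hz => ?_, fun j => ?_, fun V h c hc z hz => ?_⟩
  · obtain ⟨W, hW, b, hzW, hb⟩ := epi_locally π y hz
    obtain ⟨W', hW', c, hzW', hc⟩ := hs.exists_fun (hW.trans h) b hzW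
    refine ⟨W', hW'.trans hW, hzW', (mem_spanOn_iff _ _ _ _).2 ⟨c, ?_⟩⟩
    rw [← rs_rs _ hW' hW, ← hb, ← ap_rs, ← hc, map_sum]
    exact Finset.sum_congr rfl fun i _ => by simp only [map_smul, ap_rs, s, rs_rs]
  · rcases j with k | k
    · simp only [Sum.elim_inl, ← map_smul, ← map_sum, hr.1 k, map_zero]
    · simp only [Sum.elim_inr, ← map_smul, ← map_sum, hat k, π]
      rw [← ap_comp, cokernel.condition]; rfl
  · let y : ModSite.sect F V := ∑ i, c i • rs F h (s i)
    have hy : ap π V y = 0 := by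
      rw [← hc, map_sum]
      exact Finset.sum_congr rfl fun i _ => by rw [map_smul, ap_rs]
    obtain ⟨W, hW, g, hzW, hg⟩ := exact_locally (ShortComplex.mk φ π (cokernel.condition φ))
      (ShortComplex.exact_of_g_is_cokernel _ (cokernelIsCokernel φ)) y hy hz
    obtain ⟨W', hW', b, hzW', hb⟩ := ht.exists_fun (hW.trans h) g hzW
    have hWU : W' ≤ U := hW'.trans (hW.trans h)
    let e : ι → sc O W' := fun i =>
      rsR (hW'.trans hW) (c i) - ∑ k, b k * rsR hWU (a k i)
    have he : ∑ i, e i • rs F hWU (s i) = 0 := by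
      simp only [e, sub_smul, Finset.sum_sub_distrib, sum_comb]
      rw [sub_eq_zero]
      have h1 : ∑ i, rsR (hW'.trans hW) (c i) • rs F hWU (s i) = rs F (hW'.trans hW) y := by
        simp only [y, rs_sum_smul, rs_rs]
      have h2 : ap φ W' (rs G hW' g) = rs F (hW'.trans hW) y := by
        rw [ap_rs, ← rs_rs F hW' hW]
        exact congrArg (rs F hW') hg
      rw [h1, ← h2, ← hb, map_sum]
      refine Finset.sum_congr rfl fun k _ => ?_
      rw [map_smul, ap_rs, ← hat k, rs_sum_smul]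
    obtain ⟨W'', hW'', hzW'', hm⟩ := hr.2 hWU e he z hzW'
    refine ⟨W'', hW''.trans (hW'.trans hW), hzW'', ?_⟩
    obtain ⟨d, hd⟩ := (Submodule.mem_span_range_iff_exists_fun _).1 hm
    refine (Submodule.mem_span_range_iff_exists_fun _).2
      ⟨Sum.elim d (fun k => rsR hW'' (b k)), funext fun i => ?_⟩
    have := congrFun hd i
    simp only [Finset.sum_apply, Pi.smul_apply, smul_eq_mul, e, map_sub, map_sum, map_mul,
      rsR_rsR] at this
    simp only [Finset.sum_apply, Pi.smul_apply, smul_eq_mul, Fintype.sum_sum_type, Sum.elim_inl,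
      Sum.elim_inr]
    rw [this]
    abel

theorem isFiniteType_of_shortExact (S : ShortComplex (ModSite.Mod O)) (hS : S.ShortExact)
    [SheafOfModules.IsFiniteType (R := ModSite.ringSh O) S.X₁]
    [SheafOfModules.IsFiniteType (R := ModSite.ringSh O) S.X₃] :
    SheafOfModules.IsFiniteType (R := ModSite.ringSh O) S.X₂ := by
  haveI := hS.epi_g
  refine isFiniteType_of_forall _ fun x => ?_
  obtain ⟨U₁, n, s₁, hx₁, hs₁⟩ := exists_gen_of_isFiniteType S.X₁ x
  obtain ⟨U₃, m, s₃, hx₃, hs₃⟩ := exists_gen_of_isFiniteType S.X₃ x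
  let U₀ := U₁ ⊓ U₃
  obtain ⟨U, hU, σ, hx, hσ⟩ :=
    exists_lifts S.g (fun i => rs S.X₃ (inf_le_right : U₀ ≤ U₃) (s₃ i)) (x := x) ⟨hx₁, hx₃⟩
  have hg₁ : Gen S.X₁ (fun i => rs S.X₁ (hU.trans inf_le_left) (s₁ i)) := hs₁.mono _
  have hg₃ : Gen S.X₃ (fun i => rs S.X₃ (hU.trans inf_le_right) (s₃ i)) := hs₃.mono _
  let v : Fin n ⊕ Fin m → ModSite.sect S.X₂ U :=
    Sum.elim (fun k => ap S.f U (rs S.X₁ (hU.trans inf_le_left) (s₁ k))) σ
  refine ⟨U, Fin n ⊕ Fin m, inferInstance, v, hx, fun V h y z hz => ?_⟩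
  obtain ⟨W, hW, c, hzW, hc⟩ := hg₃.exists_fun h (ap S.g V y) hz
  let y' : ModSite.sect S.X₂ W := rs S.X₂ hW y - ∑ i, c i • rs S.X₂ (hW.trans h) (σ i)
  have hy' : ap S.g W y' = 0 := by
    simp only [y', map_sub, map_sum, map_smul, ap_rs, hσ, rs_rs]
    rw [sub_eq_zero, ← hc]
    simp only [rs_rs]
  obtain ⟨W', hW', g, hzW', hg⟩ := exact_locally S hS.exact y' hy' hzW
  obtain ⟨W'', hW'', b, hzW'', hb⟩ := hg₁.exists_fun (hW'.trans (hW.trans h)) g hzW'
  refine ⟨W'', hW''.trans (hW'.trans hW), hzW'', (mem_spanOn_iff _ _ _ _).2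
    ⟨Sum.elim b (fun i => rsR (hW''.trans hW') (c i)), ?_⟩⟩
  have e1 : ap S.f W'' (rs S.X₁ hW'' g) = rs S.X₂ (hW''.trans hW') y' := by
    rw [ap_rs, hg, rs_rs]
  rw [← hb, map_sum] at e1
  simp only [map_smul, ap_rs, rs_rs, y', map_sub, rs_sum_smul] at e1
  rw [Fintype.sum_sum_type]
  simp only [v, Sum.elim_inl, Sum.elim_inr, ap_rs, rs_rs, e1]
  abel

theorem isIso_iff_epi_of_rank (r : ℕ) {F G : ModSite.Mod O}
    (hF : ∀ x : X, ∃ U : Opens X, x ∈ U ∧
      Nonempty ((ModSite.restr O U).obj F ≅ SheafOfModules.free (ULift.{u} (Fin r))))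
    (hG : ∀ x : X, ∃ U : Opens X, x ∈ U ∧
      Nonempty ((ModSite.restr O U).obj G ≅ SheafOfModules.free (ULift.{u} (Fin r))))
    (φ : F ⟶ G) : IsIso φ ↔ Epi φ := by
  refine ⟨fun h => inferInstance, fun h => ?_⟩
  haveI : Mono φ := by
    refine mono_of_injective φ fun V => (injective_iff_map_eq_zero (ap φ V)).2 fun y hy =>
      eq_zero_of_locally F y fun z hz => ?_
    obtain ⟨U₁, hz₁, ⟨e₁⟩⟩ := hF z
    obtain ⟨U₂, hz₂, ⟨e₂⟩⟩ := hG z
    obtain ⟨f₁, hf₁, -⟩ := exists_basis_of_iso_free F r e₁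
    obtain ⟨g₂, hg₂, hgi₂⟩ := exists_basis_of_iso_free G r e₂
    let U₀ := U₁ ⊓ U₂ ⊓ V
    obtain ⟨U₃, h₃, σ, hz₃, hσ⟩ :=
      exists_lifts φ (fun i => rs G (inf_le_left.trans inf_le_right : U₀ ≤ U₂) (g₂ i)) (x := z)
        ⟨⟨hz₁, hz₂⟩, hz⟩
    have hf : Gen F (fun i => rs F ((h₃.trans inf_le_left).trans inf_le_left) (f₁ i)) := hf₁.mono _
    obtain ⟨U₄, h₄, B, hz₄, hB⟩ := exists_coeffs hf σ hz₃
    have hg₄ : Gen G (fun i => rs G (((h₄.trans h₃).trans inf_le_left).trans inf_le_right) (g₂ i)) :=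
      hg₂.mono _
    obtain ⟨U, h₅, A, hzU, hA⟩ := exists_coeffs hg₄
      (fun i => ap φ U₄ (rs F (((h₄.trans h₃).trans inf_le_left).trans inf_le_left) (f₁ i))) hz₄
    have hV : U ≤ V := ((h₅.trans h₄).trans h₃).trans inf_le_right
    let f : Fin r → ModSite.sect F U := fun i =>
      rs F ((((h₅.trans h₄).trans h₃).trans inf_le_left).trans inf_le_left) (f₁ i)
    let g : Fin r → ModSite.sect G U := fun i =>
      rs G ((((h₅.trans h₄).trans h₃).trans inf_le_left).trans inf_le_right) (g₂ i)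
    have hgi : Indep G g := hgi₂.mono _
    have hfg : Gen F f := hf₁.mono _
    let M : Matrix (Fin r) (Fin r) (sc O U) := Matrix.of fun i j => A i j
    let N : Matrix (Fin r) (Fin r) (sc O U) := Matrix.of fun i j => rsR h₅ (B i j)
    have hM : ∀ i, ∑ j, M i j • g j = ap φ U (f i) := fun i => by
      have := hA i
      simp only [rs_rs] at this
      show ∑ j, A i j • g j = _
      rw [this, ap_rs, rs_rs, ← ap_rs]
    have hN : ∀ i, ∑ j, N i j • f j = rs F (h₅.trans h₄) (σ i) := fun i => by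
      have := congrArg (rs F h₅) (hB i)
      simp only [rs_sum_smul, rs_rs] at this
      exact this
    have hNM : N * M = 1 := by
      refine Matrix.ext fun i => congrFun (?_ : (fun j => (N * M) i j) = fun j => (1 : Matrix _ _ _) i j)
      refine sub_eq_zero.1 (hgi le_rfl _ ?_)
      simp only [Pi.sub_apply, sub_smul, Finset.sum_sub_distrib, rs_self]
      rw [sub_eq_zero]
      have h1 : ∑ j, (N * M) i j • g j = ap φ U (rs F (h₅.trans h₄) (σ i)) := by
        simp only [Matrix.mul_apply, sum_comb, hM, ← hN i, map_sum, map_smul]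
      rw [h1, ap_rs, hσ, rs_rs]
      simp [Matrix.one_apply, ite_smul, g, rs_rs]
    have hMN : M * N = 1 := mul_eq_one_comm.1 hNM
    obtain ⟨W, hW, c, hzW, hc⟩ := hfg.exists_fun le_rfl (rs F hV y) hzU
    refine ⟨W, hW.trans hV, hzW, ?_⟩
    let MW : Matrix (Fin r) (Fin r) (sc O W) := M.map (rsR hW)
    let NW : Matrix (Fin r) (Fin r) (sc O W) := N.map (rsR hW)
    have hMNW : MW * NW = 1 := by
      rw [← Matrix.map_mul, hMN, Matrix.map_one _ (map_zero _) (map_one _)]
    have h0 : Matrix.vecMul c MW = 0 := by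
      refine hgi hW _ ?_
      have e := congrArg (ap φ W) hc
      rw [map_sum, ap_rs, ap_rs, hy, map_zero, map_zero] at e
      refine Eq.trans ?_ e
      simp only [Matrix.vecMul, dotProduct, sum_comb, map_smul, ap_rs]
      refine Finset.sum_congr rfl fun i _ => ?_
      rw [← hM i, rs_sum_smul]
      rfl
    have hc0 : c = 0 := by
      have := congrArg (fun v => Matrix.vecMul v NW) h0
      simpa [Matrix.vecMul_vecMul, hMNW] using this
    rw [← rs_rs F hW hV, ← hc, hc0]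
    simp
  exact isIso_of_mono_of_epi φ

end Groth.Agent.RSFin
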