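import Groth.Agent.RSFin.Thms

/-!
# Finite type and pushforward along closed embeddings of ringed spaces
-/

set_option autoImplicit false
set_option linter.style.haveILetI false
set_option backward.isDefEq.respectTransparency false
set_option backward.isDefEq.respectTransparency.types false

universe u

open CategoryTheory Limits TopologicalSpace Opposite

noncomputable section

namespace Groth.Agent.RSFin

variable {Z X : TopCat.{u}} (i : Z ⟶ X) {O_Z : TopCat.Sheaf CommRingCat.{u} Z}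
  {O_X : TopCat.Sheaf CommRingCat.{u} X}
  (c : O_X ⟶ ((TopologicalSpace.Opens.map i).sheafPushforwardContinuous CommRingCat.{u}
    (Opens.grothendieckTopology X) (Opens.grothendieckTopology Z)).obj O_Z)

/-- The inverse image of an open. -/
abbrev pre (U : Opens X) : Opens Z := (TopologicalSpace.Opens.map i).obj U

theorem pre_mono {W U : Opens X} (h : W ≤ U) : pre i W ≤ pre i U := fun _ hz => h hz

/-- The comorphism on sections. -/
def sharp (U : Opens X) : sc O_X U →+* sc O_Z (pre i U) := (c.hom.app (op U)).hom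

/-- The pushforward of a module. -/
abbrev pf (F : ModSite.Mod O_Z) : ModSite.Mod O_X :=
  (ModSite.RMor.ofFlat (TopologicalSpace.Opens.map i) c).push.obj F

variable (F : ModSite.Mod O_Z)

/-- Sections of the pushforward as sections of the module. -/
def psec (U : Opens X) : ModSite.sect (pf i c F) U →+ ModSite.sect F (pre i U) where
  toFun t := t
  map_zero' := rfl
  map_add' _ _ := rfl

theorem psec_bijective (U : Opens X) : Function.Bijective (psec i c F U) :=
  ⟨fun _ _ h => h, fun t => ⟨t, rfl⟩⟩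

theorem psec_smul (U : Opens X) (a : sc O_X U) (t : ModSite.sect (pf i c F) U) :
    psec i c F U (a • t) = sharp i c U a • psec i c F U t := rfl

theorem psec_rs {W U : Opens X} (h : W ≤ U) (t : ModSite.sect (pf i c F) U) :
    psec i c F W (rs (pf i c F) h t) = rs F (pre_mono i h) (psec i c F U t) := rfl

theorem sharp_rsR {W U : Opens X} (h : W ≤ U) (a : sc O_X U) :
    sharp i c W (rsR h a) = rsR (pre_mono i h) (sharp i c U a) :=
  ConcreteCategory.congr_hom (c.hom.naturality (homOfLE h).op) a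

theorem eq_of_pre_bot {U : Opens X} (h : ∀ z : Z, z ∉ pre i U) (a b : ModSite.sect (pf i c F) U) :
    a = b :=
  (psec_bijective i c F U).1 (eq_of_locally F _ _ fun z hz => absurd hz (h z))

variable {i}

theorem exists_open_le (hi : Topology.IsClosedEmbedding i) {V : Opens Z} {z : Z} (hz : z ∈ V)
    {U : Opens X} (hzU : i z ∈ U) :
    ∃ W : Opens X, W ≤ U ∧ i z ∈ W ∧ pre i W ≤ V := by
  obtain ⟨V', hV', e⟩ := hi.isInducing.isOpen_iff.1 V.isOpen
  refine ⟨U ⊓ ⟨V', hV'⟩, inf_le_left, ⟨hzU, ?_⟩, fun w hw => ?_⟩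
  · show z ∈ i ⁻¹' V'
    rw [e]; exact hz
  · have : w ∈ i ⁻¹' V' := hw.2
    rwa [e] at this

theorem exists_sharp (hi : Topology.IsClosedEmbedding i) (hc : Sheaf.IsLocallySurjective c)
    {V : Opens Z} (a : sc O_Z V) {z : Z} (hz : z ∈ V) {U : Opens X} (hzU : i z ∈ U) :
    ∃ (W : Opens X) (_ : W ≤ U) (hW : pre i W ≤ V) (b : sc O_X W),
      i z ∈ W ∧ sharp i c W b = rsR hW a := by
  obtain ⟨W, hWU, hzW, hW⟩ := exists_open_le hi hz hzU
  obtain ⟨W', l, hl, hzW'⟩ :=
    Presheaf.imageSieve_mem (Opens.grothendieckTopology X) c.hom (U := op W)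
      (rsR hW a : sc O_Z (pre i W)) (i z) hzW
  obtain ⟨b, hb⟩ := hl
  refine ⟨W', (leOfHom l).trans hWU, (pre_mono i (leOfHom l)).trans hW, b, hzW', ?_⟩
  exact hb.trans (rsR_rsR (pre_mono i (leOfHom l)) hW a)

theorem gen_push (hi : Topology.IsClosedEmbedding i) (hc : Sheaf.IsLocallySurjective c)
    {U : Opens X} {n : ℕ} (s : Fin n → ModSite.sect (pf i c F) U)
    (hs : Gen F (fun k => psec i c F U (s k))) : Gen (pf i c F) s := by
  intro V h t x hx
  by_cases hxZ : x ∈ Set.range i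
  · obtain ⟨z, rfl⟩ := hxZ
    obtain ⟨W₀, hW₀, a, hzW₀, ha⟩ :=
      hs.exists_fun (pre_mono i h) (psec i c F V t) (show z ∈ pre i V from hx)
    obtain ⟨W, hWV, hzW, hP⟩ := exists_common hx
      (fun k W _ => ∃ (hW : pre i W ≤ W₀) (b : sc O_X W), sharp i c W b = rsR hW (a k))
      (fun k W W' _ h' ⟨hW, b, hb⟩ =>
        ⟨(pre_mono i h').trans hW, rsR h' b, by rw [sharp_rsR, hb, rsR_rsR]⟩)
      (fun k => by
        obtain ⟨W, hWV, hW, b, hzW, hb⟩ := exists_sharp c hi hc (a k) hzW₀ hx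
        exact ⟨W, hWV, hzW, hW, b, hb⟩)
    obtain ⟨W₁, hW₁, hzW₁, hW₁'⟩ := exists_open_le hi hzW₀ hzW
    choose hW b hb using hP
    refine ⟨W₁, hW₁.trans hWV, hzW₁, (mem_spanOn_iff _ _ _ _).2 ⟨fun k => rsR hW₁ (b k), ?_⟩⟩
    refine (psec_bijective i c F W₁).1 ?_
    rw [psec_rs, ← rs_rs F hW₁' hW₀, ← ha, rs_sum_smul, map_sum]
    refine Finset.sum_congr rfl fun k _ => ?_
    rw [psec_smul, sharp_rsR, hb, psec_rs, rs_rs, rsR_rsR]
  · refine ⟨V ⊓ ⟨(Set.range i)ᶜ, hi.isClosed_range.isOpen_compl⟩, inf_le_left, ⟨hx, hxZ⟩, ?_⟩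
    rw [eq_of_pre_bot i c F (U := V ⊓ ⟨(Set.range i)ᶜ, hi.isClosed_range.isOpen_compl⟩)
      (fun z hz => hz.2 ⟨z, rfl⟩) (rs (pf i c F) inf_le_left t) 0]
    exact Submodule.zero_mem _

theorem isFiniteType_push_iff (hi : Topology.IsClosedEmbedding i)
    (hc : Sheaf.IsLocallySurjective c) :
    SheafOfModules.IsFiniteType (R := ModSite.ringSh O_X) (pf i c F) ↔
      SheafOfModules.IsFiniteType (R := ModSite.ringSh O_Z) F := by
  constructor
  · intro h
    refine isFiniteType_of_forall _ fun z => ?_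
    obtain ⟨U, n, s, hzU, hs⟩ := exists_gen_of_isFiniteType (pf i c F) (i z)
    refine ⟨pre i U, Fin n, inferInstance, fun k => psec i c F U (s k), hzU, fun V hV t y hy => ?_⟩
    obtain ⟨W, hWU, hyW, hW⟩ := exists_open_le hi hy (show i y ∈ U from hV hy)
    obtain ⟨t', ht'⟩ := (psec_bijective i c F W).2 (rs F hW t)
    obtain ⟨W', hW', a, hyW', ha⟩ := hs.exists_fun hWU t' hyW
    refine ⟨pre i W', (pre_mono i hW').trans hW, hyW',
      (mem_spanOn_iff _ _ _ _).2 ⟨fun k => sharp i c W' (a k), ?_⟩⟩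
    have := congrArg (psec i c F W') ha
    rw [map_sum, psec_rs, ht', rs_rs] at this
    rw [← this]
    exact Finset.sum_congr rfl fun k _ => by rw [psec_smul, psec_rs]
  · intro h
    refine isFiniteType_of_forall _ fun x => ?_
    by_cases hxZ : x ∈ Set.range i
    · obtain ⟨z, rfl⟩ := hxZ
      obtain ⟨V, n, s, hzV, hs⟩ := exists_gen_of_isFiniteType F z
      obtain ⟨U, -, hzU, hU⟩ := exists_open_le hi hzV (U := ⊤) trivial
      choose s' hs' using fun k => (psec_bijective i c F U).2 (rs F hU (s k))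
      refine ⟨U, Fin n, inferInstance, s', hzU, gen_push c F hi hc s' ?_⟩
      simp only [hs']
      exact hs.mono hU
    · refine ⟨⟨(Set.range i)ᶜ, hi.isClosed_range.isOpen_compl⟩, Fin 0, inferInstance,
        fun k => k.elim0, hxZ, fun V hV t y hy => ⟨V, le_rfl, hy, ?_⟩⟩
      rw [eq_of_pre_bot i c F (fun z hz => hV hz ⟨z, rfl⟩) (rs (pf i c F) le_rfl t) 0]
      exact Submodule.zero_mem _

end Groth.Agent.RSFin
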