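import Groth.Agent.RSFin.Stalks
import Groth.Agent.RSStalk.Fib
import Groth.Agent.InvSite.Basic
import Mathlib.RingTheory.PicardGroup

/-!
Invertible modules on locally ringed spaces: nonvanishing loci of sections.
-/

set_option autoImplicit false
set_option linter.style.haveILetI false
set_option backward.isDefEq.respectTransparency false
set_option backward.isDefEq.respectTransparency.types false

universe u

open CategoryTheory Limits TopologicalSpace Opposite TensorProduct

noncomputable section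

namespace Groth.Agent.RSFin

open Groth.Agent.KFlat (PStalk pgerm pgerm_res pgerm_smul exists_pgerm PT ptmul)
open Groth.Agent.RSStalk (PM toP shP rg pst st shUnit stTensorIso fibAdd fibIso)

section Alg

variable {R M N : Type*} [CommRing R] [AddCommGroup M] [Module R M] [AddCommGroup N] [Module R N]

/-- With local coefficients an invertible module is free of rank one. -/
theorem exists_coord_of_tensor_equiv [IsLocalRing R] (T : M ⊗[R] N ≃ₗ[R] R) :
    Nonempty (M ≃ₗ[R] R) := by
  haveI : Module.Invertible R M := Module.Invertible.left T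
  haveI : Module.Free R M := Module.free_of_flat_of_isLocalRing
  exact Module.Invertible.free_iff_linearEquiv.1 inferInstance

/-- Units under a pairing. -/
theorem isUnit_coord_iff (T : M ⊗[R] N ≃ₗ[R] R) (b : M ≃ₗ[R] R) (m : M) :
    IsUnit (b m) ↔ ∃ n, IsUnit (T (m ⊗ₜ n)) := by
  have hm : m = b m • b.symm 1 := b.injective (by simp)
  constructor
  · intro h
    let f : N →ₗ[R] R := T.toLinearMap ∘ₗ TensorProduct.mk R M N (b.symm 1)
    have hf : Function.Surjective f := fun r => by
      obtain ⟨z, rfl⟩ := T.surjective r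
      induction z using TensorProduct.induction_on with
      | zero => exact ⟨0, by simp⟩
      | tmul a c =>
        refine ⟨b a • c, ?_⟩
        show T (b.symm 1 ⊗ₜ (b a • c)) = T (a ⊗ₜ c)
        rw [← TensorProduct.smul_tmul, ← b.symm.map_smul, smul_eq_mul, mul_one, b.symm_apply_apply]
      | add a c ha hc =>
        obtain ⟨na, hna⟩ := ha
        obtain ⟨nc, hnc⟩ := hc
        exact ⟨na + nc, by rw [map_add, hna, hnc, map_add]⟩
    obtain ⟨n, hn⟩ := hf 1
    refine ⟨n, ?_⟩
    rw [hm, ← TensorProduct.smul_tmul', map_smul, smul_eq_mul]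
    exact h.mul ((congrArg IsUnit hn).mpr isUnit_one)
  · rintro ⟨n, h⟩
    rw [hm, ← TensorProduct.smul_tmul', map_smul, smul_eq_mul] at h
    exact isUnit_of_mul_isUnit_left h

variable {R' M' : Type*} [CommRing R'] [IsLocalRing R'] [AddCommGroup M'] [Module R' M']

theorem not_mem_maximal_iff_isUnit [IsLocalRing R] (ρ : R' ≃+* R) (β : M' ≃+ R)
    (hβ : ∀ r m, β (r • m) = ρ r * β m) (m : M') :
    (m ∉ IsLocalRing.maximalIdeal R' • (⊤ : Submodule R' M') ↔ IsUnit (β m)) ∧
      (IsUnit (β m) → Function.Bijective (fun r : R' => r • m)) := by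
  refine ⟨⟨fun h => by_contra fun hu => h ?_, fun h hmem => ?_⟩, fun h => ?_⟩
  · have e : m = ρ.symm (β m) • β.symm 1 := β.injective (by simp [hβ])
    rw [e]
    refine Submodule.smul_mem_smul ?_ trivial
    rwa [IsLocalRing.mem_maximalIdeal, mem_nonunits_iff, MulEquiv.isUnit_map ρ.symm]
  · have key : β m ∈ IsLocalRing.maximalIdeal R := by
      refine Submodule.smul_induction_on hmem (fun r hr z _ => ?_) (fun a c ha hc => ?_)
      · rw [hβ]
        refine Ideal.mul_mem_right _ _ ?_
        rwa [IsLocalRing.mem_maximalIdeal, mem_nonunits_iff, MulEquiv.isUnit_map ρ,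
          ← mem_nonunits_iff, ← IsLocalRing.mem_maximalIdeal]
      · rw [map_add]
        exact Ideal.add_mem _ ha hc
    exact (IsLocalRing.mem_maximalIdeal _).1 key h
  · refine ⟨fun r r' e => ρ.injective (h.mul_left_injective ?_), fun z => ?_⟩
    · have e' := congrArg β e
      simp only [hβ] at e'
      exact e'
    · obtain ⟨c, hc⟩ := h.exists_left_inv
      refine ⟨ρ.symm (β z * c), β.injective ?_⟩
      simp only [hβ, RingEquiv.apply_symm_apply, mul_assoc, hc, mul_one]

end Alg

variable {X : TopCat.{u}} {O : TopCat.Sheaf CommRingCat.{u} X}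

/-- The unit module as a presheaf of modules. -/
abbrev punit (O : TopCat.Sheaf CommRingCat.{u} X) : PM O := (toP O).obj (ModSite.unit O)

/-- A function as a section of the unit module. -/
abbrev toU {U : Opens X} (r : sc O U) : (punit O).obj (op U) := r

/-- A section of the unit module as a function. -/
abbrev ofU {U : Opens X} (r : (punit O).obj (op U)) : sc O U := r

/-- Multiplication by the unit section on the stalk. -/
def oneMap (x : X) : (rg O).stalk x →ₗ[(rg O).stalk x] PStalk (punit O) x :=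
  LinearMap.toSpanSingleton _ _ (pgerm (punit O) x ⊤ trivial (toU (1 : sc O ⊤)))

theorem oneMap_germ (x : X) {U : Opens X} (hx : x ∈ U) (r : sc O U) :
    oneMap x ((rg O).germ U x hx r) = pgerm (punit O) x U hx (toU r) := by
  show (rg O).germ U x hx r • pgerm (punit O) x ⊤ trivial (toU (1 : sc O ⊤)) = _
  rw [← pgerm_res (punit O) x (le_top : U ≤ ⊤) hx, ← pgerm_smul]
  refine congrArg _ ?_
  show r * rsR le_top (1 : sc O ⊤) = r
  rw [map_one, mul_one]

theorem bijective_oneMap (x : X) : Function.Bijective (oneMap (O := O) x) := by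
  refine ⟨(injective_iff_map_eq_zero _).2 fun a ha => ?_, fun m => ?_⟩
  · obtain ⟨U, hx, r, rfl⟩ := TopCat.Presheaf.exists_germ_eq (rg O) (x := x) a
    rw [oneMap_germ] at ha
    obtain ⟨W, hxW, i, i', h⟩ := TopCat.Presheaf.germ_eq (punit O).presheaf x hx hx (toU r) (toU (0 : sc O U))
      (ha.trans (map_zero (pgerm (punit O) x U hx)).symm)
    rw [← TopCat.Presheaf.germ_res_apply (rg O) i x hxW r]
    refine (congrArg ((rg O).germ W x hxW) (?_ : (O.obj.map i.op).hom r = 0)).trans (map_zero _)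
    exact h.trans (map_zero _)
  · obtain ⟨U, hx, r, rfl⟩ := exists_pgerm (punit O) x m
    exact ⟨(rg O).germ U x hx (ofU r), oneMap_germ x hx (ofU r)⟩

/-- The stalk of the unit module. -/
def oneEquiv (x : X) : (rg O).stalk x ≃ₗ[(rg O).stalk x] PStalk (punit O) x :=
  LinearEquiv.ofBijective (oneMap x) (bijective_oneMap x)

variable {L N : ModSite.Mod O} (e : ((ModSite.tensorBi O).obj L).obj N ≅ ModSite.unit O)

/-- The pairing on sections. -/
def pairSec (U : Opens X) (l : ModSite.sect L U) (n : ModSite.sect N U) : sc O U :=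
  ofU ((shUnit (PT ((toP O).obj L) ((toP O).obj N)) ≫ (toP O).map e.hom).app (op U)
    (ptmul ((toP O).obj L) ((toP O).obj N) l n))

/-- The pairing on stalks. -/
def stPair (x : X) : PStalk ((toP O).obj L) x ⊗[(rg O).stalk x] PStalk ((toP O).obj N) x ≃ₗ[(rg O).stalk x]
    (rg O).stalk x :=
  (stTensorIso L N x ≪≫ (st O x).mapIso e).toLinearEquiv.trans (oneEquiv x).symm

theorem stPair_germ (x : X) {U : Opens X} (hx : x ∈ U) (l : ModSite.sect L U)
    (n : ModSite.sect N U) :
    stPair e x (pgerm ((toP O).obj L) x U hx l ⊗ₜ pgerm ((toP O).obj N) x U hx n) =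
      (rg O).germ U x hx (pairSec e U l n) := by
  refine (oneEquiv x).symm_apply_eq.2 ?_
  refine Eq.trans ?_ (oneMap_germ x hx (pairSec e U l n)).symm
  show RSStalk.pstMap ((toP O).map e.hom) x (RSStalk.pstMap (shUnit (PT ((toP O).obj L) ((toP O).obj N))) x
    (RSStalk.stEquiv ((toP O).obj L) ((toP O).obj N) x (_ ⊗ₜ _))) = _
  rw [RSStalk.stEquiv_tmul, RSStalk.pstMap_germ]
  exact RSStalk.pstMap_germ ((toP O).map e.hom) x hx _

/-- The stalk ring at the point of the site as the stalk. -/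
def fibRing (x : X) : stR O x ≃+* (rg O).stalk x := (fibIso O.obj x).commRingCatIsoToRingEquiv

theorem nonvanishing (hO : ∀ x : X, IsLocalRing (stR O x))
    (hL : ((ModSite.tensorBi O).obj L).IsEquivalence) (U : Opens X) (s : ModSite.sect L U) :
    IsOpen {x : X | ∃ hx : x ∈ U, ModSite.germ (pt x) L U ⟨⟨hx⟩⟩ s ∉
        (@IsLocalRing.maximalIdeal (stR O x) _ (hO x)) •
          (⊤ : Submodule (stR O x) (ModSite.stalkAb (pt x) L))} ∧
      ∀ (x : X) (hx : x ∈ U), ModSite.germ (pt x) L U ⟨⟨hx⟩⟩ s ∉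
          (@IsLocalRing.maximalIdeal (stR O x) _ (hO x)) •
            (⊤ : Submodule (stR O x) (ModSite.stalkAb (pt x) L)) →
        Function.Bijective (fun a : stR O x => a • ModSite.germ (pt x) L U ⟨⟨hx⟩⟩ s) := by
  obtain ⟨N, ⟨e⟩⟩ := InvSite.exists_inverse hL
  have hst : ∀ x : X, IsLocalRing ((rg O).stalk x) := fun x =>
    haveI := hO x
    (fibRing x).isLocalRing
  have key : ∀ (x : X) (hx : x ∈ U),
      (ModSite.germ (pt x) L U ⟨⟨hx⟩⟩ s ∉ (@IsLocalRing.maximalIdeal (stR O x) _ (hO x)) •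
          (⊤ : Submodule (stR O x) (ModSite.stalkAb (pt x) L)) ↔
        ∃ n, IsUnit (stPair e x (pgerm ((toP O).obj L) x U hx s ⊗ₜ n))) ∧
      ((∃ n, IsUnit (stPair e x (pgerm ((toP O).obj L) x U hx s ⊗ₜ n))) →
        Function.Bijective (fun a : stR O x => a • ModSite.germ (pt x) L U ⟨⟨hx⟩⟩ s)) := by
    intro x hx
    haveI := hO x
    haveI := hst x
    obtain ⟨b⟩ := exists_coord_of_tensor_equiv (stPair e x)
    let β : ModSite.stalkAb (pt x) L ≃+ (rg O).stalk x := (fibAdd L x).trans b.toAddEquiv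
    have hβ : ∀ r m, β (r • m) = fibRing x r * β m := fun r m => by
      show b (fibAdd L x (r • m)) = fibRing x r * b (fibAdd L x m)
      rw [RSStalk.fibAdd_smul, map_smul, smul_eq_mul]
      rfl
    have hb : β (ModSite.germ (pt x) L U ⟨⟨hx⟩⟩ s) = b (pgerm ((toP O).obj L) x U hx s) :=
      congrArg b (RSStalk.fibAdd_germ L x U hx s)
    obtain ⟨h1, h2⟩ := not_mem_maximal_iff_isUnit (fibRing x) β hβ (ModSite.germ (pt x) L U ⟨⟨hx⟩⟩ s)
    rw [hb, isUnit_coord_iff (stPair e x) b] at h1 h2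
    exact ⟨h1, h2⟩
  refine ⟨isOpen_iff_forall_mem_open.2 fun x hx => ?_, fun x hx h => (key x hx).2 ((key x hx).1.1 h)⟩
  obtain ⟨hxU, hx⟩ := hx
  obtain ⟨n, hn⟩ := (key x hxU).1.1 hx
  obtain ⟨W, hxW, c, rfl⟩ := exists_pgerm ((toP O).obj N) x n
  let V := U ⊓ W
  have hxV : x ∈ V := ⟨hxU, hxW⟩
  let μ : sc O V := pairSec e V (KFlat.pres ((toP O).obj L) inf_le_left s)
    (KFlat.pres ((toP O).obj N) inf_le_right c)
  have hμ : IsUnit ((rg O).germ V x hxV μ) := by
    rw [← stPair_germ, pgerm_res, pgerm_res]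
    exact hn
  obtain ⟨b, hb⟩ := hμ.exists_right_inv
  obtain ⟨W₁, hxW₁, b, rfl⟩ := TopCat.Presheaf.exists_germ_eq (rg O) (x := x) b
  have e1 : (rg O).germ (V ⊓ W₁) x ⟨hxV, hxW₁⟩ (rsR inf_le_left μ * rsR inf_le_right b) =
      (rg O).germ (V ⊓ W₁) x ⟨hxV, hxW₁⟩ 1 := by
    rw [map_mul, map_one]
    refine Eq.trans ?_ hb
    exact congrArg₂ (· * ·) ((rg O).germ_res_apply (homOfLE inf_le_left) x _ μ)
      ((rg O).germ_res_apply (homOfLE inf_le_right) x _ b)
  obtain ⟨W₂, hxW₂, i₁, i₂, heq⟩ := (rg O).germ_eq x _ _ _ _ e1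
  refine ⟨(W₂ : Set X), fun y hy => ?_, W₂.isOpen, hxW₂⟩
  have hyV : y ∈ V := ((leOfHom i₁) hy).1
  refine ⟨hyV.1, (key y hyV.1).1.2 ⟨pgerm ((toP O).obj N) y W hyV.2 c, ?_⟩⟩
  rw [← pgerm_res ((toP O).obj L) y (inf_le_left : V ≤ U) hyV,
    ← pgerm_res ((toP O).obj N) y (inf_le_right : V ≤ W) hyV, stPair_germ]
  have e2 : (rg O).germ W₂ y hy ((O.obj.map i₁.op).hom (rsR inf_le_left μ * rsR inf_le_right b)) = 1 :=
    ((congrArg ((rg O).germ W₂ y hy) heq).trans (congrArg _ (map_one (O.obj.map i₂.op).hom))).trans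
      (map_one _)
  rw [map_mul, map_mul] at e2
  refine IsUnit.of_mul_eq_one _ (Eq.trans (congrArg (· * _) ?_) e2)
  exact ((rg O).germ_res_apply (homOfLE (inf_le_left : V ⊓ W₁ ≤ V)) y ((leOfHom i₁) hy) μ).symm.trans
    ((rg O).germ_res_apply i₁ y hy _).symm

end Groth.Agent.RSFin
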