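import Groth.Agent.RSFin.Sect

/-!
# Finite type, finite presentation and local freeness on ringed spaces in terms of sections
-/

set_option autoImplicit false
set_option linter.style.haveILetI false
set_option backward.isDefEq.respectTransparency false
set_option backward.isDefEq.respectTransparency.types false

universe u

open CategoryTheory Limits TopologicalSpace Opposite

noncomputable section

namespace Groth.Agent.RSFin

variable {X : TopCat.{u}} {O : TopCat.Sheaf CommRingCat.{u} X}

/-- The restriction to the slice. -/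
abbrev ovr (F : ModSite.Mod O) (U : Opens X) :
    SheafOfModules.{u} ((ModSite.ringSh O).over U) :=
  (ModSite.restr O U).obj F

/-- The map out of a free module given by sections over `U`. -/
def homOfSec (F : ModSite.Mod O) {U : Opens X} {ι : Type u} (s : ι → ModSite.sect F U) :
    SheafOfModules.free (R := (ModSite.ringSh O).over U) ι ⟶ ovr F U :=
  (ovr F U).freeHomEquiv.symm fun i => QCAlg.sectionsOf (ovr F U) (s i)

/-- Evaluation of a map of slice modules at an open contained in `U`. -/
def apOv {U : Opens X} {N N' : SheafOfModules.{u} ((ModSite.ringSh O).over U)} (p : N ⟶ N')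
    {V : Opens X} (h : V ≤ U) (t : QCAlg.sec N h) : QCAlg.sec N' h :=
  QCAlg.mapSec p h t

theorem homOfSec_basis (F : ModSite.Mod O) {U V : Opens X} {ι : Type u} (h : V ≤ U)
    (s : ι → ModSite.sect F U) (i : ι) :
    QCAlg.mapSec (homOfSec F s) h (QCAlg.freeBasis ι i h) = rs F h (s i) :=
  QCAlg.mapSec_freeBasis (N := ovr F U) s i h

theorem homOfSec_comb (F : ModSite.Mod O) {U V : Opens X} {ι : Type u} [Fintype ι] (h : V ≤ U)
    (s : ι → ModSite.sect F U) (c : ι → sc O V) :
    QCAlg.mapSec (homOfSec F s) h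
        (∑ i, (c i : QCAlg.scal (R := ModSite.ringSh O) h) • QCAlg.freeBasis ι i h) =
      ∑ i, c i • rs F h (s i) := by
  rw [map_sum]
  refine Finset.sum_congr rfl fun i _ => ?_
  rw [map_smul, homOfSec_basis]

theorem exists_comb {U V : Opens X} {ι : Type u} [Fintype ι] (h : V ≤ U)
    (t : QCAlg.sec (SheafOfModules.free (R := (ModSite.ringSh O).over U) ι) h) :
    ∃ c : ι → sc O V,
      ∑ i, (c i : QCAlg.scal (R := ModSite.ringSh O) h) • QCAlg.freeBasis ι i h = t :=
  (Submodule.mem_span_range_iff_exists_fun _).1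
    ((QCAlg.span_freeBasis (R := ModSite.ringSh O) (I := ι) h).ge (Submodule.mem_top (x := t)))

theorem ovr_epi_locally {U : Opens X} {N N' : SheafOfModules.{u} ((ModSite.ringSh O).over U)}
    (p : N ⟶ N') [Epi p] {V : Opens X} (h : V ≤ U) (t : QCAlg.sec N' h) {x : X} (hx : x ∈ V) :
    ∃ (W : Opens X) (hWV : W ≤ V) (a : QCAlg.sec N (hWV.trans h)),
      x ∈ W ∧ QCAlg.mapSec p (hWV.trans h) a = QCAlg.rs N' hWV h t := by
  haveI : Sheaf.IsLocallySurjective ((SheafOfModules.toSheaf _).map p) :=
    (Sheaf.isLocallySurjective_iff_epi' AddCommGrpCat.{u} _).mpr inferInstance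
  have hs := Presheaf.imageSieve_mem ((Opens.grothendieckTopology X).over U)
    ((SheafOfModules.toSheaf _).map p).hom (U := op (QCAlg.ov h)) t
  rw [GrothendieckTopology.mem_over_iff] at hs
  obtain ⟨W, l, hl, hyW⟩ := hs x hx
  rw [Sieve.overEquiv_iff] at hl
  obtain ⟨s, hst⟩ := hl
  exact ⟨W, leOfHom l, s, hyW, hst⟩

theorem rs_ovr (F : ModSite.Mod O) {U V W : Opens X} (hWV : W ≤ V) (h : V ≤ U)
    (t : ModSite.sect F V) : QCAlg.rs (ovr F U) hWV h t = rs F hWV t := rfl

theorem gen_of_epi (F : ModSite.Mod O) {U : Opens X} {ι : Type u} [Finite ι]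
    (s : ι → ModSite.sect F U) [Epi (homOfSec F s)] : Gen F s := by
  haveI := Fintype.ofFinite ι
  intro V h t x hx
  obtain ⟨W, hWV, a, hxW, ha⟩ := ovr_epi_locally (homOfSec F s) h t hx
  obtain ⟨c, rfl⟩ := exists_comb (hWV.trans h) a
  rw [homOfSec_comb, rs_ovr] at ha
  exact ⟨W, hWV, hxW, (mem_spanOn_iff _ _ _ _).2 ⟨c, ha⟩⟩

theorem epi_of_gen (F : ModSite.Mod O) {U : Opens X} {ι : Type u} [Finite ι]
    (s : ι → ModSite.sect F U) (hs : Gen F s) : Epi (homOfSec F s) := by
  haveI := Fintype.ofFinite ι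
  refine QCAlg.epi_of_locally _ fun V h t x hx => ?_
  obtain ⟨W, hW, c, hxW, hc⟩ := hs.exists_fun h t hx
  exact ⟨W, hW, _, hxW, (homOfSec_comb F (hW.trans h) s c).trans hc⟩

theorem exists_homOfSec (F : ModSite.Mod O) {U : Opens X} {ι : Type u}
    (p : SheafOfModules.free (R := (ModSite.ringSh O).over U) ι ⟶ ovr F U) :
    ∃ s : ι → ModSite.sect F U, homOfSec F s = p := by
  refine ⟨fun i => ((ovr F U).freeHomEquiv p i).val (op (QCAlg.ov (le_refl U))),
    (ovr F U).freeHomEquiv.symm_apply_eq.2 (funext fun i => ?_)⟩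
  ext ⟨W⟩
  exact ((ovr F U).freeHomEquiv p i).property
    (Over.homMk W.hom (Subsingleton.elim _ _) : W ⟶ QCAlg.ov (le_refl U)).op

theorem exists_gen_of_generatingSections (F : ModSite.Mod O) {U : Opens X}
    (σ : (ovr F U).GeneratingSections) [Finite σ.I] :
    ∃ s : σ.I → ModSite.sect F U, homOfSec F s = σ.π ∧ Gen F s := by
  obtain ⟨s, hs⟩ := exists_homOfSec F σ.π
  haveI : Epi (homOfSec F s) := by rw [hs]; exact σ.epi
  exact ⟨s, hs, gen_of_epi F s⟩

theorem exists_mem_of_coversTop {ι : Type*} {W : ι → Opens X}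
    (h : (Opens.grothendieckTopology X).CoversTop W) (x : X) : ∃ i, x ∈ W i :=
  ((Opens.coversTop_iff (T := X) W).mp h).exists_mem x

theorem coversTop_of_forall {ι : Type*} {W : ι → Opens X} (h : ∀ x : X, ∃ i, x ∈ W i) :
    (Opens.grothendieckTopology X).CoversTop W := by
  rw [Opens.coversTop_iff, IsOpenCover, eq_top_iff]
  exact fun x _ ↦ Opens.mem_iSup.mpr (h x)

theorem exists_gen_of_isFiniteType (F : ModSite.Mod O)
    [hF : SheafOfModules.IsFiniteType (R := ModSite.ringSh O) F] (x : X) :
    ∃ (U : Opens X) (n : ℕ) (s : Fin n → ModSite.sect F U), x ∈ U ∧ Gen F s := by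
  obtain ⟨q, hq⟩ := hF.exists_localGeneratorsData
  obtain ⟨i, hi⟩ := exists_mem_of_coversTop q.coversTop x
  let σ : (ovr F (q.X i)).GeneratingSections := q.generators i
  haveI : Finite σ.I := (hq.isFiniteType i).finite
  obtain ⟨s, -, hs⟩ := exists_gen_of_generatingSections F σ
  haveI := Fintype.ofFinite σ.I
  refine ⟨q.X i, Fintype.card σ.I, fun k => s ((Fintype.equivFin σ.I).symm k), hi, ?_⟩
  intro V h t y hy
  obtain ⟨W, hW, hyW, hm⟩ := hs h t y hy
  refine ⟨W, hW, hyW, ?_⟩
  unfold spanOn at hm ⊢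
  erw [(Fintype.equivFin σ.I).symm.surjective.range_comp (fun k => rs F (hW.trans h) (s k))]
  exact hm

/-- Generating sections of the slice module from sections generating `F` over `U`. -/
def genSections (F : ModSite.Mod O) {U : Opens X} {ι : Type u} [Finite ι]
    (s : ι → ModSite.sect F U) (hs : Gen F s) : (ovr F U).GeneratingSections where
  I := ι
  s i := QCAlg.sectionsOf (ovr F U) (s i)
  epi := epi_of_gen F s hs

theorem genSections_π (F : ModSite.Mod O) {U : Opens X} {ι : Type u} [Finite ι]
    (s : ι → ModSite.sect F U) (hs : Gen F s) : (genSections F s hs).π = homOfSec F s := rfl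

theorem Gen.reindex {F : ModSite.Mod O} {U : Opens X} {ι κ : Type*} (e : κ ≃ ι)
    {s : ι → ModSite.sect F U} (hs : Gen F s) : Gen F (fun k => s (e k)) := by
  intro V h t y hy
  obtain ⟨W, hW, hyW, hm⟩ := hs h t y hy
  refine ⟨W, hW, hyW, ?_⟩
  unfold spanOn at hm ⊢
  erw [e.surjective.range_comp (fun k => rs F (hW.trans h) (s k))]
  exact hm

theorem isFiniteType_of_forall (F : ModSite.Mod O)
    (h : ∀ x : X, ∃ (U : Opens X) (ι : Type) (_ : Finite ι) (s : ι → ModSite.sect F U),
      x ∈ U ∧ Gen F s) : SheafOfModules.IsFiniteType (R := ModSite.ringSh O) F := by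
  choose U ι hι s hx hs using h
  let d : SheafOfModules.LocalGeneratorsData.{u} (R := ModSite.ringSh O) F :=
    { I := X
      X := U
      coversTop := coversTop_of_forall fun x => ⟨x, hx x⟩
      generators := fun x =>
        haveI := hι x
        genSections F (fun k : ULift.{u} (ι x) => s x k.down) ((hs x).reindex Equiv.ulift) }
  refine { exists_localGeneratorsData := ⟨d, { isFiniteType := fun x => ⟨?_⟩ }⟩ }
  haveI := hι x
  show Finite (ULift.{u} (ι x))
  infer_instance

/-- Coordinates with respect to a family of sections. -/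
structure Coord (F : ModSite.Mod O) (U : Opens X) (ι : Type u) [DecidableEq ι] where
  /-- the sections -/
  b : ι → ModSite.sect F U
  /-- the coordinates -/
  coord (k : ι) {V : Opens X} (h : V ≤ U) : ModSite.sect F V →ₗ[sc O V] sc O V
  coord_b (k l : ι) {V : Opens X} (h : V ≤ U) :
    coord k h (rs F h (b l)) = if l = k then 1 else 0
  gen : Finite ι → Gen F b
  epi : Epi (homOfSec F b)

section Free

variable {U : Opens X} {ι : Type u} [DecidableEq ι]

/-- The projections of a free module. -/
def dlt (k : ι) : SheafOfModules.free (R := (ModSite.ringSh O).over U) ι ⟶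
    SheafOfModules.unit ((ModSite.ringSh O).over U) :=
  Sigma.desc fun j => if j = k then 𝟙 _ else 0

/-- The coordinates of a section of a free module. -/
def co (k : ι) {V : Opens X} (h : V ≤ U)
    (t : QCAlg.sec (SheafOfModules.free (R := (ModSite.ringSh O).over U) ι) h) : sc O V :=
  QCAlg.mapSec (dlt k) h t

theorem co_rs (k : ι) {V W : Opens X} (hW : W ≤ V) (h : V ≤ U)
    (t : QCAlg.sec (SheafOfModules.free (R := (ModSite.ringSh O).over U) ι) h) :
    co k (hW.trans h) (QCAlg.rs _ hW h t) = rsR hW (co k h t) :=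
  QCAlg.mapSec_rs (dlt k) hW h t

theorem co_basis (k l : ι) {V : Opens X} (h : V ≤ U) :
    co (O := O) k h (QCAlg.freeBasis ι l h) = if l = k then 1 else 0 := by
  let one' : QCAlg.sec (SheafOfModules.unit ((ModSite.ringSh O).over U)) h :=
    (1 : QCAlg.scal (R := ModSite.ringSh O) h)
  have hb : QCAlg.freeBasis (R := ModSite.ringSh O) ι l h =
      QCAlg.mapSec (SheafOfModules.ιFree (R := (ModSite.ringSh O).over U) l) h one' :=
    ((QCAlg.ιFree_app l h one').trans (one_smul (QCAlg.scal (R := ModSite.ringSh O) h) _)).symm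
  rw [hb]
  show QCAlg.mapSec (Sigma.ι (fun _ : ι => SheafOfModules.unit ((ModSite.ringSh O).over U)) l ≫
    dlt k) h one' = _
  rw [dlt, Sigma.ι_desc]
  split_ifs
  · rfl
  · rfl

theorem co_comb [Fintype ι] (k : ι) {V : Opens X} (h : V ≤ U) (c : ι → sc O V) :
    co k h (∑ i, (c i : QCAlg.scal (R := ModSite.ringSh O) h) • QCAlg.freeBasis ι i h) = c k := by
  show QCAlg.mapSec (dlt k) h _ = _
  rw [map_sum]
  refine (Finset.sum_congr rfl fun i _ => (map_smul (QCAlg.mapSec (dlt k) h) _ _).trans
    (congrArg (fun z : sc O V => (c i * z : sc O V)) (co_basis k i h))).trans ?_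
  simp

theorem rs_freeBasis (k : ι) {V W : Opens X} (hW : W ≤ V) (h : V ≤ U) :
    QCAlg.rs _ hW h (QCAlg.freeBasis (R := ModSite.ringSh O) ι k h) =
      QCAlg.freeBasis ι k (hW.trans h) :=
  (SheafOfModules.freeSection (R := (ModSite.ringSh O).over U) k).property
    (Over.homMk (homOfLE hW) (Subsingleton.elim _ _) : QCAlg.ov (hW.trans h) ⟶ QCAlg.ov h).op

end Free

theorem nonempty_coord_of_iso (F : ModSite.Mod O) {U : Opens X} {ι : Type u} [DecidableEq ι]
    (e : ovr F U ≅ SheafOfModules.free (R := (ModSite.ringSh O).over U) ι) :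
    Nonempty (Coord F U ι) := by
  obtain ⟨s, hs⟩ := exists_homOfSec F e.inv
  haveI : Epi (homOfSec F s) := by rw [hs]; infer_instance
  let δ : ι → (SheafOfModules.free (R := (ModSite.ringSh O).over U) ι ⟶
      SheafOfModules.unit ((ModSite.ringSh O).over U)) := fun k => dlt k
  refine ⟨{ b := s, coord := fun k {V} h => ?_, coord_b := fun k l {V} h => ?_,
            gen := fun _ => gen_of_epi F s, epi := inferInstance }⟩
  · exact { toFun := fun t => QCAlg.mapSec (e.hom ≫ δ k) h t
            map_add' := fun a b => map_add _ a b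
            map_smul' := fun c a => map_smul (QCAlg.mapSec (e.hom ≫ δ k) h) c a }
  · show QCAlg.mapSec (e.hom ≫ δ k) h (rs F h (s l)) = _
    rw [← homOfSec_basis F h s l, hs]
    show QCAlg.mapSec (e.inv ≫ e.hom ≫ δ k) h (QCAlg.freeBasis ι l h) = _
    rw [Iso.inv_hom_id_assoc]
    exact co_basis k l h

theorem Coord.indep {F : ModSite.Mod O} {U : Opens X} {ι : Type u} [DecidableEq ι] [Fintype ι]
    (B : Coord F U ι) : Indep F B.b := by
  intro V h c hc
  funext k
  have := congrArg (B.coord k h) hc
  simpa [map_sum, B.coord_b, Finset.sum_ite_eq'] using this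

theorem isIso_homOfSec (F : ModSite.Mod O) {U : Opens X} {ι : Type u} [Fintype ι]
    (s : ι → ModSite.sect F U) (hg : Gen F s) (hi : Indep F s) : IsIso (homOfSec F s) := by
  haveI := epi_of_gen F s hg
  haveI : Mono (homOfSec F s) := by
    haveI : Mono ((SheafOfModules.forget _).map (homOfSec F s)) := by
      refine PresheafOfModules.mono_of_injective (fun Y => ?_)
      obtain ⟨Y⟩ := Y
      intro a b hab
      have h : Y.left ≤ U := leOfHom Y.hom
      obtain ⟨c, rfl⟩ := exists_comb (ι := ι) h a
      obtain ⟨d, rfl⟩ := exists_comb (ι := ι) h b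
      have hab' : ∑ i, c i • rs F h (s i) = ∑ i, d i • rs F h (s i) :=
        (homOfSec_comb F h s c).symm.trans (hab.trans (homOfSec_comb F h s d))
      have : c = d := sub_eq_zero.1 (hi h (c - d) (by
        simp only [Pi.sub_apply, sub_smul, Finset.sum_sub_distrib, hab', sub_self]))
      rw [this]
    exact (SheafOfModules.forget _).mono_of_mono_map inferInstance
  exact isIso_of_mono_of_epi _

theorem nonempty_iso_free (F : ModSite.Mod O) {U : Opens X} {ι : Type u} [Finite ι]
    (s : ι → ModSite.sect F U) (hg : Gen F s) (hi : ∀ [Fintype ι], Indep F s) :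
    Nonempty (ovr F U ≅ SheafOfModules.free (R := (ModSite.ringSh O).over U) ι) := by
  haveI := Fintype.ofFinite ι
  haveI := isIso_homOfSec F s hg hi
  exact ⟨(asIso (homOfSec F s)).symm⟩

theorem exists_basis_of_iso_free (F : ModSite.Mod O) {U : Opens X} (r : ℕ)
    (e : ovr F U ≅ SheafOfModules.free (R := (ModSite.ringSh O).over U) (ULift.{u} (Fin r))) :
    ∃ s : Fin r → ModSite.sect F U, Gen F s ∧ Indep F s := by
  obtain ⟨B⟩ := nonempty_coord_of_iso F e
  refine ⟨fun k => B.b ⟨k⟩, (B.gen inferInstance).reindex Equiv.ulift.symm, fun V h c hc => ?_⟩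
  have := B.indep h (fun k => c k.down) (by
    rw [← hc]; exact Fintype.sum_equiv Equiv.ulift _ _ (fun _ => rfl))
  exact funext fun k => congrFun this ⟨k⟩

theorem nonempty_iso_free_fin (F : ModSite.Mod O) {U : Opens X} {r : ℕ}
    (s : Fin r → ModSite.sect F U) (hg : Gen F s) (hi : Indep F s) :
    Nonempty (ovr F U ≅ SheafOfModules.free (R := (ModSite.ringSh O).over U) (ULift.{u} (Fin r))) :=
  nonempty_iso_free F (fun k : ULift.{u} (Fin r) => s k.down) (hg.reindex Equiv.ulift)
    fun {_} V h c hc => by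
      have := hi h (fun k => c ⟨k⟩) (by
        rw [← hc]; exact Fintype.sum_equiv Equiv.ulift.symm _ _ (fun _ => rfl))
      exact funext fun k => congrFun this k.down

theorem co_map_comb {U V W : Opens X} {ι κ : Type u} [Fintype ι] [Fintype κ] [DecidableEq ι]
    (g : SheafOfModules.free (R := (ModSite.ringSh O).over U) κ ⟶
      SheafOfModules.free (R := (ModSite.ringSh O).over U) ι)
    (r : κ → ι → sc O U)
    (hr : ∀ k, ∑ i, (r k i : QCAlg.scal (R := ModSite.ringSh O) (le_refl U)) •
          QCAlg.freeBasis ι i (le_refl U) =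
        QCAlg.mapSec g (le_refl U) (QCAlg.freeBasis κ k (le_refl U)))
    (h : V ≤ U) (hW : W ≤ V) (d : κ → sc O W) (c : ι → sc O V)
    (key : QCAlg.mapSec g (hW.trans h)
        (∑ k, (d k : QCAlg.scal (R := ModSite.ringSh O) (hW.trans h)) •
          QCAlg.freeBasis κ k (hW.trans h)) =
        QCAlg.rs _ hW h
          (∑ i, (c i : QCAlg.scal (R := ModSite.ringSh O) h) • QCAlg.freeBasis ι i h))
    (i : ι) : ∑ k, d k * rsR (hW.trans h) (r k i) = rsR hW (c i) := by
  classical
  have hk : ∀ k, co i (hW.trans h) (QCAlg.mapSec g (hW.trans h)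
      (QCAlg.freeBasis κ k (hW.trans h))) = rsR (hW.trans h) (r k i) := fun k => by
    rw [← rs_freeBasis k (hW.trans h) (le_refl U), QCAlg.mapSec_rs, ← hr k, co_rs, co_comb]
  rw [← co_comb i h c, ← co_rs, ← key, map_sum]
  refine Eq.trans ?_ (map_sum (QCAlg.mapSec (dlt i) (hW.trans h)) _ _).symm
  refine Finset.sum_congr rfl fun k _ => ?_
  rw [← hk k, map_smul]
  exact (map_smul (QCAlg.mapSec (dlt i) (hW.trans h)) _ _).symm

theorem exists_rel_of_presentation (F : ModSite.Mod O) {U : Opens X} (P : (ovr F U).Presentation)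
    [P.IsFinite] :
    ∃ (ι κ : Type) (_ : Fintype ι) (_ : Fintype κ) (s : ι → ModSite.sect F U)
      (r : κ → ι → sc O U), Gen F s ∧ Rel F s r := by
  haveI : Finite P.generators.I :=
    (SheafOfModules.Presentation.IsFinite.isFiniteType_generators (p := P)).finite
  haveI : Finite P.relations.I :=
    (SheafOfModules.Presentation.IsFinite.isFiniteType_relations (p := P)).finite
  haveI := Fintype.ofFinite P.generators.I
  haveI := Fintype.ofFinite P.relations.I
  classical
  obtain ⟨s, hs, hg⟩ := exists_gen_of_generatingSections F P.generators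
  let eι := Fintype.equivFin P.generators.I
  let eκ := Fintype.equivFin P.relations.I
  let g := P.relations.π ≫ kernel.ι P.generators.π
  have hg' : ∀ k, ∃ c : P.generators.I → sc O U,
      ∑ i, (c i : QCAlg.scal (R := ModSite.ringSh O) (le_refl U)) •
          QCAlg.freeBasis P.generators.I i (le_refl U) =
        QCAlg.mapSec g (le_refl U) (QCAlg.freeBasis P.relations.I k (le_refl U)) :=
    fun k => exists_comb _ _
  choose r hr using hg'
  refine ⟨Fin (Fintype.card P.generators.I), Fin (Fintype.card P.relations.I), inferInstance,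
    inferInstance, fun i => s (eι.symm i), fun k i => r (eκ.symm k) (eι.symm i),
    hg.reindex eι.symm, fun k => ?_, fun V h c hc x hx => ?_⟩
  · have e : QCAlg.mapSec (homOfSec F s) (le_refl U)
        (QCAlg.mapSec g (le_refl U) (QCAlg.freeBasis P.relations.I (eκ.symm k) (le_refl U))) = 0 := by
      rw [hs]
      show QCAlg.mapSec ((P.relations.π ≫ kernel.ι P.generators.π) ≫ P.generators.π) _ _ = 0
      rw [Category.assoc, kernel.condition, comp_zero]
      rfl
    rw [← hr, homOfSec_comb] at e
    simp only [rs_self] at e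
    rw [← e]
    exact Fintype.sum_equiv eι.symm _ _ (fun _ => rfl)
  · let t : QCAlg.sec (SheafOfModules.free (R := (ModSite.ringSh O).over U) P.generators.I) h :=
      ∑ i, (c (eι i) : QCAlg.scal (R := ModSite.ringSh O) h) • QCAlg.freeBasis P.generators.I i h
    have ht : QCAlg.mapSec P.generators.π h t = 0 := by
      rw [← hs, homOfSec_comb, ← hc]
      exact Fintype.sum_equiv eι _ _ (fun i => by simp)
    let E := SheafOfModules.forget ((ModSite.ringSh O).over U) ⋙
      PresheafOfModules.evaluation _ (op (QCAlg.ov h))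
    haveI : E.Additive := inferInstance
    haveI : PreservesLimit (parallelPair P.generators.π 0) E := inferInstance
    have hk : IsLimit (KernelFork.ofι (E.map (kernel.ι P.generators.π))
        (by rw [← E.map_comp, kernel.condition, E.map_zero])) :=
      isLimitForkMapOfIsLimit' E (kernel.condition P.generators.π) (kernelIsKernel P.generators.π)
    let e := hk.conePointUniqueUpToIso (ModuleCat.kernelIsLimit (E.map P.generators.π))
    have hb : QCAlg.mapSec (kernel.ι P.generators.π) h (e.inv.hom ⟨t, ht⟩) = t :=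
      congrArg (fun q : ModuleCat.of _ (LinearMap.ker (E.map P.generators.π).hom) ⟶
          E.obj (SheafOfModules.free P.generators.I) => q.hom ⟨t, ht⟩)
        (hk.conePointUniqueUpToIso_inv_comp (ModuleCat.kernelIsLimit (E.map P.generators.π))
          WalkingParallelPair.zero)
    obtain ⟨W, hW, a, hxW, ha⟩ := ovr_epi_locally P.relations.π h (e.inv.hom ⟨t, ht⟩) hx
    obtain ⟨d, rfl⟩ := exists_comb (hW.trans h) a
    refine ⟨W, hW, hxW, ?_⟩
    have key : QCAlg.mapSec g (hW.trans h)
        (∑ k, (d k : QCAlg.scal (R := ModSite.ringSh O) (hW.trans h)) •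
          QCAlg.freeBasis P.relations.I k (hW.trans h)) =
        QCAlg.rs _ hW h t := by
      show QCAlg.mapSec (kernel.ι P.generators.π) _ (QCAlg.mapSec P.relations.π _ _) = _
      rw [ha, QCAlg.mapSec_rs, hb]
    have hco : ∀ i, ∑ k, d k * rsR (hW.trans h) (r k i) = rsR hW (c (eι i)) :=
      co_map_comb g r hr h hW d (fun j => c (eι j)) key
    rw [Submodule.mem_span_range_iff_exists_fun]
    refine ⟨fun k => d (eκ.symm k), funext fun i => ?_⟩
    rw [Finset.sum_apply]
    simp only [Pi.smul_apply, smul_eq_mul]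
    refine Eq.trans ?_ ((hco (eι.symm i)).trans (by rw [Equiv.apply_symm_apply]))
    exact Fintype.sum_equiv eκ.symm _ _ (fun _ => rfl)

end Groth.Agent.RSFin
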