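import Groth.Agent.RSFin.Local
import Groth.Agent.RSFin.Germ

/-!
# The rank of locally free modules on ringed spaces
-/

set_option autoImplicit false
set_option linter.style.haveILetI false
set_option backward.isDefEq.respectTransparency false
set_option backward.isDefEq.respectTransparency.types false

universe u

open CategoryTheory Limits TopologicalSpace Opposite

noncomputable section

namespace Groth.Agent.RSFin

variable {X : TopCat.{u}} {O : TopCat.Sheaf CommRingCat.{u} X}

theorem nontrivial_sc (x : X) [Nontrivial (O.presheaf.stalk x)] {W : Opens X} (hx : x ∈ W) :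
    Nontrivial (sc O W) :=
  RingHom.domain_nontrivial (O.presheaf.germ W x hx).hom

theorem card_finset_le (F : ModSite.Mod O) {x : X} [Nontrivial (O.presheaf.stalk x)]
    {U U' : Opens X} (hx : x ∈ U) (hx' : x ∈ U') {I K : Type u} [Fintype I]
    (e : (ModSite.restr O U).obj F ≅ SheafOfModules.free I)
    (e' : (ModSite.restr O U').obj F ≅ SheafOfModules.free K) (L : Finset K) :
    L.card ≤ Fintype.card I := by
  classical
  obtain ⟨B⟩ := nonempty_coord_of_iso F e
  obtain ⟨B'⟩ := nonempty_coord_of_iso F e'
  have hg : Gen F (fun i => rs F (inf_le_left : U ⊓ U' ≤ U) (B.b i)) := (B.gen inferInstance).mono _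
  obtain ⟨W, hW, a, hxW, ha⟩ :=
    exists_coeffs hg (fun l : L => rs F (inf_le_right : U ⊓ U' ≤ U') (B'.b l)) (x := x) ⟨hx, hx'⟩
  haveI := nontrivial_sc (O := O) x hxW
  let M : Matrix L I (sc O W) := Matrix.of fun l i => a l i
  let N : Matrix I L (sc O W) := Matrix.of fun i k =>
    B'.coord (k : K) (hW.trans inf_le_right) (rs F (hW.trans inf_le_left) (B.b i))
  have hMN : M * N = 1 := by
    refine Matrix.ext fun l k => ?_
    have h := congrArg (B'.coord (k : K) (hW.trans inf_le_right)) (ha l)
    simp only [rs_rs, map_sum, map_smul, smul_eq_mul, B'.coord_b] at h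
    refine Eq.trans h ?_
    simp [Matrix.one_apply]
  have hinj : Function.Injective (Matrix.vecMulLinear M) := fun v w hvw => by
    have := congrArg (fun z => Matrix.vecMul z N) hvw
    simpa [Matrix.vecMulLinear, Matrix.vecMul_vecMul, hMN] using this
  simpa using LinearMap.finrank_le_finrank_of_injective hinj

theorem finite_and_card_le (F : ModSite.Mod O) {x : X} [Nontrivial (O.presheaf.stalk x)]
    {U U' : Opens X} (hx : x ∈ U) (hx' : x ∈ U') {I K : Type u} [Fintype I]
    (e : (ModSite.restr O U).obj F ≅ SheafOfModules.free I)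
    (e' : (ModSite.restr O U').obj F ≅ SheafOfModules.free K) :
    ENat.card K ≤ ENat.card I := by
  rcases finite_or_infinite K with hK | hK
  · haveI := Fintype.ofFinite K
    have h := card_finset_le F hx hx' e e' Finset.univ
    simp only [ENat.card_eq_coe_fintype_card]
    exact_mod_cast h
  · obtain ⟨L, hL⟩ := Infinite.exists_subset_card_eq K (Fintype.card I + 1)
    have := card_finset_le F hx hx' e e' L
    omega

theorem card_eq (F : ModSite.Mod O) {x : X} [Nontrivial (O.presheaf.stalk x)]
    {U U' : Opens X} (hx : x ∈ U) (hx' : x ∈ U') {I K : Type u}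
    (e : (ModSite.restr O U).obj F ≅ SheafOfModules.free I)
    (e' : (ModSite.restr O U').obj F ≅ SheafOfModules.free K) : ENat.card I = ENat.card K := by
  rcases finite_or_infinite I with hI | hI <;> rcases finite_or_infinite K with hK | hK
  · haveI := Fintype.ofFinite I
    haveI := Fintype.ofFinite K
    exact le_antisymm (finite_and_card_le F hx' hx e' e) (finite_and_card_le F hx hx' e e')
  · haveI := Fintype.ofFinite I
    have := finite_and_card_le F hx hx' e e'
    simp [ENat.card_eq_top_of_infinite (α := K)] at this
  · haveI := Fintype.ofFinite K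
    have := finite_and_card_le F hx' hx e' e
    simp [ENat.card_eq_top_of_infinite (α := I)] at this
  · rw [ENat.card_eq_top_of_infinite, ENat.card_eq_top_of_infinite]

theorem exists_rank (hO : ∀ x : X, Nontrivial (O.presheaf.stalk x)) (F : ModSite.Mod O)
    [hF : SheafOfModules.IsLocallyFree (R := ModSite.ringSh O) F] :
    ∃ rk : X → ℕ∞, IsLocallyConstant rk ∧ ∀ (x : X) (U : Opens X) (I : Type u), x ∈ U →
      Nonempty ((ModSite.restr O U).obj F ≅ SheafOfModules.free I) → ENat.card I = rk x := by
  obtain ⟨q, hq⟩ := hF.exists_isLocallyFreeData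
  choose i hi using fun x => exists_mem_of_coversTop q.coversTop x
  have e : ∀ j, Nonempty ((ModSite.restr O (q.X j)).obj F ≅
      SheafOfModules.free (q.generators j).I) := fun j => by
    haveI := hq.isIso j
    exact ⟨(asIso (q.generators j).π).symm⟩
  refine ⟨fun x => ENat.card (q.generators (i x)).I, (IsLocallyConstant.iff_exists_open _).2
    fun x => ⟨(q.X (i x) : Set X), (q.X (i x)).isOpen, hi x, fun y hy => ?_⟩, fun x U I hx hiso => ?_⟩
  · haveI := hO y
    exact card_eq F (hi y) hy (e _).some (e _).some
  · haveI := hO x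
    exact card_eq F hx (hi x) hiso.some (e _).some

end Groth.Agent.RSFin
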