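import Groth.Agent.RSFin.Thms
import Mathlib.RingTheory.LocalRing.Module

/-!
# Stalks and local freeness of modules on ringed spaces
-/

set_option autoImplicit false
set_option linter.style.haveILetI false
set_option backward.isDefEq.respectTransparency false
set_option backward.isDefEq.respectTransparency.types false

universe u

open CategoryTheory Limits TopologicalSpace Opposite

noncomputable section

namespace Groth.Agent.RSFin

variable {X : TopCat.{u}} {O : TopCat.Sheaf CommRingCat.{u} X}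

theorem exists_epi_restr {G F : ModSite.Mod O} (φ : G ⟶ F)
    [SheafOfModules.IsFiniteType (R := ModSite.ringSh O) F] (x : X)
    (hx : Function.Surjective (ModSite.stalkMap (pt x) φ).hom) :
    ∃ U : Opens X, x ∈ U ∧ Epi ((ModSite.restr O U).map φ) := by
  obtain ⟨U₁, n, s₁, hx₁, hs₁⟩ := exists_gen_of_isFiniteType F x
  choose e he using fun i => hx (gm F hx₁ (s₁ i))
  obtain ⟨U₂, h₂, hx₂, t₂, ht₂⟩ := exists_gms G hx₁ e
  obtain ⟨U, h₃, hxU, heq⟩ := exists_rs_eq F hx₂
    (a := fun i => ap φ U₂ (t₂ i)) (b := fun i => rs F h₂ (s₁ i))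
    (fun i => by rw [← gm_map, ht₂, he, gm_rs])
  refine ⟨U, hxU, QCAlg.epi_of_locally ((ModSite.restr O U).map φ) fun V h y z hz => ?_⟩
  obtain ⟨W, hW, c, hzW, hc⟩ := hs₁.exists_fun (V := V) (h.trans (h₃.trans h₂)) y hz
  refine ⟨W, hW, ∑ i, c i • rs G ((hW.trans h).trans h₃) (t₂ i), hzW, ?_⟩
  show ap φ W _ = rs F hW y
  rw [map_sum, ← hc]
  refine Finset.sum_congr rfl fun i _ => ?_
  rw [map_smul, ap_rs, ← rs_rs F (hW.trans h) h₃, heq i, rs_rs, rs_rs]

/-- A finitely presented module with free stalk is free near the point. -/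
theorem exists_free_of_stalk_basis (F : ModSite.Mod O)
    [SheafOfModules.IsFinitePresentation (R := ModSite.ringSh O) F] (x : X) {r : ℕ}
    (b : Module.Basis (Fin r) (stR O x) (stM F x)) :
    ∃ U : Opens X, x ∈ U ∧ Nonempty ((ModSite.restr O U).obj F ≅
      SheafOfModules.free (ULift.{u} (Fin r))) := by
  obtain ⟨U₁, ι, κ, _, _, s₁, r₁, hx₁, hs₁, hr₁⟩ := exists_rel_of_isFinitePresentation F x
  obtain ⟨U₂, h₂, hx₂, e₂, he₂⟩ := exists_gms F hx₁ b
  obtain ⟨U₃, h₃, a₃, hx₃, ha₃⟩ := exists_coeffs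
    (hs₁.mono h₂ : Gen F (fun i => rs F h₂ (s₁ i))) e₂ hx₂
  obtain ⟨U₄, h₄, hx₄, B₄, hB₄⟩ : ∃ (W : Opens X) (_ : W ≤ U₃) (hxW : x ∈ W)
      (B : ι → Fin r → sc O W), ∀ i j,
        gmR O hxW (B i j) = b.repr (gm F hx₁ (s₁ i)) j := by
    obtain ⟨W, hW, hxW, h⟩ := exists_common (ι := ι × Fin r) hx₃
      (fun ij W _ => ∀ hxW : x ∈ W,
        ∃ a : sc O W, gmR O hxW a = b.repr (gm F hx₁ (s₁ ij.1)) ij.2)
      (fun ij W W' _ h' hP hxW' => by
        obtain ⟨a, ha⟩ := hP (h' hxW'); exact ⟨rsR h' a, by rw [gmR_rs, ha]⟩)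
      (fun ij => by
        obtain ⟨V, hxV, a, ha⟩ := exists_gmR x (b.repr (gm F hx₁ (s₁ ij.1)) ij.2)
        exact ⟨U₃ ⊓ V, inf_le_left, ⟨hx₃, hxV⟩, fun hxW =>
          ⟨rsR inf_le_right a, by rw [gmR_rs, ha]⟩⟩)
    choose B hB using fun i j => h (i, j) hxW
    exact ⟨W, hW, hxW, B, hB⟩
  obtain ⟨U₅, h₅, hx₅, heq₅⟩ := exists_rs_eq F hx₄
    (a := fun i => ∑ j, B₄ i j • rs F (h₄.trans h₃) (e₂ j))
    (b := fun i => rs F ((h₄.trans h₃).trans h₂) (s₁ i))
    (fun i => by
      rw [gm_sum_smul, gm_rs]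
      simp only [gm_rs, hB₄, he₂]
      exact b.sum_repr _)
  let e : Fin r → ModSite.sect F U₅ := fun j => rs F ((h₅.trans h₄).trans h₃) (e₂ j)
  let s : ι → ModSite.sect F U₅ := fun i => rs F (((h₅.trans h₄).trans h₃).trans h₂) (s₁ i)
  let a : Fin r → ι → sc O U₅ := fun j i => rsR (h₅.trans h₄) (a₃ j i)
  let B : ι → Fin r → sc O U₅ := fun i j => rsR h₅ (B₄ i j)
  let rr : κ → ι → sc O U₅ := fun k i => rsR (((h₅.trans h₄).trans h₃).trans h₂) (r₁ k i)
  have hs : Gen F s := hs₁.mono _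
  have hr : Rel F s rr := hr₁.mono _
  have ha : ∀ j, ∑ i, a j i • s i = e j := fun j => by
    have := congrArg (rs F (h₅.trans h₄)) (ha₃ j)
    simp only [rs_sum_smul, rs_rs] at this
    exact this
  have hB : ∀ i, ∑ j, B i j • e j = s i := fun i => by
    have := heq₅ i
    simp only [rs_sum_smul, rs_rs] at this
    exact this
  have hge : Gen F e := by
    intro V h y z hz
    obtain ⟨W, hW, c, hzW, hc⟩ := hs.exists_fun h y hz
    refine ⟨W, hW, hzW, (mem_spanOn_iff _ _ _ _).2
      ⟨fun j => ∑ i, c i * rsR (hW.trans h) (B i j), ?_⟩⟩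
    rw [sum_comb, ← hc]
    refine Finset.sum_congr rfl fun i _ => ?_
    rw [← hB i, rs_sum_smul]
  -- generators of the relations between the `e j`
  let q : Fin r ⊕ κ → Fin r → sc O U₅ := Sum.elim
    (fun l j => (if l = j then 1 else 0) - ∑ i, a l i * B i j)
    (fun k j => ∑ i, rr k i * B i j)
  have hq : ∀ m, ∑ j, q m j • e j = 0 := by
    rintro (l | k)
    · simp only [q, Sum.elim_inl, sub_smul, Finset.sum_sub_distrib, sum_comb, hB, ha, ite_smul,
        one_smul, zero_smul, Finset.sum_ite_eq, Finset.mem_univ, if_true, sub_self]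
    · simp only [q, Sum.elim_inr, sum_comb, hB, hr.1]
  have hqx : ∀ m j, gmR O hx₅ (q m j) = 0 := fun m j => by
    have h := congrArg (gm F hx₅) (hq m)
    rw [gm_sum_smul, map_zero] at h
    have hb : ∀ j, gm F hx₅ (e j) = b j := fun j => by simp only [e, gm_rs, he₂]
    simp only [hb] at h
    exact Fintype.linearIndependent_iff.1 b.linearIndependent _ h j
  obtain ⟨U, hU, hxU, hq0⟩ := exists_rsR_eq (ι := (Fin r ⊕ κ) × Fin r) hx₅
    (a := fun mj => q mj.1 mj.2) (b := fun _ => 0) (fun mj => by rw [hqx, map_zero])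
  refine ⟨U, hxU, nonempty_iso_free_fin F (fun j => rs F hU (e j)) (hge.mono hU) ?_⟩
  intro V h c hc
  funext j
  refine sc_eq_of_locally _ _ fun z hz => ?_
  have hVU₅ : V ≤ U₅ := h.trans hU
  let c' : ι → sc O V := fun i => ∑ l, c l * rsR hVU₅ (a l i)
  have hc' : ∑ i, c' i • rs F hVU₅ (s i) = 0 := by
    rw [sum_comb, ← hc]
    refine Finset.sum_congr rfl fun l _ => ?_
    rw [rs_rs, ← ha l, rs_sum_smul]
  obtain ⟨W, hW, hzW, hm⟩ := hr.2 hVU₅ c' hc' z hz
  refine ⟨W, hW, hzW, ?_⟩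
  obtain ⟨d, hd⟩ := (Submodule.mem_span_range_iff_exists_fun _).1 hm
  have h0 : ∀ m, rsR (hW.trans hVU₅) (q m j) = 0 := fun m => by
    rw [← rsR_rsR (hW.trans h) hU, hq0 (m, j), map_zero, map_zero]
  have hl : ∀ l, (if l = j then (1 : sc O W) else 0) =
      ∑ i, rsR (hW.trans hVU₅) (a l i) * rsR (hW.trans hVU₅) (B i j) := fun l => by
    have := h0 (.inl l)
    simp only [q, Sum.elim_inl, map_sub, map_sum, map_mul, apply_ite (rsR (hW.trans hVU₅)),
      map_one, map_zero, sub_eq_zero] at this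
    exact this
  have hk : ∀ k, ∑ i, rsR (hW.trans hVU₅) (rr k i) * rsR (hW.trans hVU₅) (B i j) = 0 := fun k => by
    simpa only [q, Sum.elim_inr, map_sum, map_mul] using h0 (.inr k)
  calc rsR hW (c j) = ∑ l, rsR hW (c l) * (if l = j then (1 : sc O W) else 0) := by simp
    _ = ∑ i, rsR hW (c' i) * rsR (hW.trans hVU₅) (B i j) := by
      simp only [hl, Finset.mul_sum, c', map_sum, map_mul, rsR_rsR, Finset.sum_mul, mul_assoc]
      exact Finset.sum_comm
    _ = ∑ k, d k * ∑ i, rsR (hW.trans hVU₅) (rr k i) * rsR (hW.trans hVU₅) (B i j) := by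
      simp only [Finset.mul_sum]
      rw [Finset.sum_comm]
      refine Finset.sum_congr rfl fun i _ => ?_
      have := congrFun hd i
      simp only [Finset.sum_apply, Pi.smul_apply, smul_eq_mul] at this
      rw [← this, Finset.sum_mul]
      simp only [mul_assoc]
    _ = rsR hW ((0 : Fin r → sc O V) j) := by simp [hk]

theorem linearIndependent_gm (F : ModSite.Mod O) {x : X} {U : Opens X} (hx : x ∈ U) {ι : Type*}
    [Fintype ι] {s : ι → ModSite.sect F U} (hs : Indep F s) :
    LinearIndependent (stR O x) (fun i => gm F hx (s i)) := by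
  refine Fintype.linearIndependent_iff.2 fun g hg => ?_
  obtain ⟨W, hW, hxW, h⟩ := exists_common hx
    (fun i W _ => ∀ hxW : x ∈ W, ∃ a, gmR O hxW a = g i)
    (fun i W W' _ h' hP hxW' => by
      obtain ⟨a, ha⟩ := hP (h' hxW'); exact ⟨rsR h' a, by rw [gmR_rs, ha]⟩)
    (fun i => by
      obtain ⟨V, hxV, a, ha⟩ := exists_gmR x (g i)
      exact ⟨U ⊓ V, inf_le_left, ⟨hx, hxV⟩, fun hxW => ⟨rsR inf_le_right a, by rw [gmR_rs, ha]⟩⟩)
  choose a ha using fun i => h i hxW
  obtain ⟨W', hW', hxW', h0⟩ := eq_of_gm_eq F hxW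
    (a := ∑ i, a i • rs F hW (s i)) (b := 0)
    (by rw [gm_sum_smul, map_zero]; simpa only [gm_rs, ha] using hg)
  rw [rs_sum_smul, map_zero] at h0
  simp only [rs_rs] at h0
  have := hs (hW'.trans hW) _ h0
  intro i
  rw [← ha i, ← gmR_rs hW' hxW', congrFun this i]
  exact map_zero _

theorem isLocalRing_stR (x : X) [IsLocalRing (O.presheaf.stalk x)] : IsLocalRing (stR O x) := by
  have key : ∀ {V : Opens X} (hx : x ∈ V) (a : sc O V),
      IsUnit (O.presheaf.germ V x hx a) → IsUnit (gmR O hx a) := by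
    intro V hx a ha
    obtain ⟨b, hb⟩ := ha.exists_right_inv
    obtain ⟨W, hxW, c, rfl⟩ := O.presheaf.germ_exist b
    let W₀ := V ⊓ W
    have hW₀ : x ∈ W₀ := ⟨hx, hxW⟩
    have e : O.presheaf.germ W₀ x hW₀ (rsR inf_le_left a * rsR inf_le_right c) =
        O.presheaf.germ W₀ x hW₀ 1 := by
      rw [map_mul, map_one]
      refine Eq.trans ?_ hb
      exact congrArg₂ (· * ·) (O.presheaf.germ_res_apply (homOfLE inf_le_left) x hW₀ a)
        (O.presheaf.germ_res_apply (homOfLE inf_le_right) x hW₀ c)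
    obtain ⟨W', hxW', i₁, i₂, heq⟩ := O.presheaf.germ_eq x hW₀ hW₀ _ _ e
    have he' : rsR (leOfHom i₁) (rsR inf_le_left a) * rsR (leOfHom i₁) (rsR inf_le_right c) = 1 := by
      rw [← map_mul]
      exact heq.trans (map_one _)
    have := congrArg (gmR O hxW') he'
    rw [map_mul, map_one, gmR_rs, gmR_rs] at this
    exact IsUnit.of_mul_eq_one _ this
  haveI : Nontrivial (stR O x) := by
    by_contra h
    rw [not_nontrivial_iff_subsingleton] at h
    obtain ⟨W, hW, hxW, e⟩ := eq_of_gmR_eq (O := O) (V := ⊤) (show x ∈ (⊤ : Opens X) from trivial)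
      (a := 1) (b := 0) (Subsingleton.elim _ _)
    rw [map_one, map_zero] at e
    have := congrArg (O.presheaf.germ W x hxW) e
    rw [map_one, map_zero] at this
    exact one_ne_zero this
  refine IsLocalRing.of_isUnit_or_isUnit_one_sub_self fun a => ?_
  obtain ⟨V, hxV, a, rfl⟩ := exists_gmR x a
  rcases IsLocalRing.isUnit_or_isUnit_one_sub_self (O.presheaf.germ V x hxV a) with h | h
  · exact .inl (key hxV a h)
  · refine .inr ?_
    have := key hxV (1 - a) (by rwa [map_sub, map_one])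
    rwa [map_sub, map_one] at this

theorem exists_free_of_retract {F H : ModSite.Mod O} (x : X) [IsLocalRing (O.presheaf.stalk x)]
    (hH : ∀ x : X, ∃ (U : Opens X) (n : ℕ), x ∈ U ∧
      Nonempty ((ModSite.restr O U).obj H ≅ SheafOfModules.free (ULift.{u} (Fin n))))
    (i : F ⟶ H) (p : H ⟶ F) (hip : i ≫ p = 𝟙 F) :
    ∃ (U : Opens X) (n : ℕ), x ∈ U ∧
      Nonempty ((ModSite.restr O U).obj F ≅ SheafOfModules.free (ULift.{u} (Fin n))) := by
  have hpi : ∀ (V : Opens X) (t : ModSite.sect F V), ap p V (ap i V t) = t := fun V t => by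
    rw [← ap_comp, hip, ap_id]
  haveI : SheafOfModules.IsFinitePresentation (R := ModSite.ringSh O) F := by
    refine isFinitePresentation_of_forall _ fun y => ?_
    obtain ⟨U₀, n, hy₀, ⟨e⟩⟩ := hH y
    obtain ⟨b₀, hb₀, hbi₀⟩ := exists_basis_of_iso_free H n e
    obtain ⟨U, hU, P, hy, hP⟩ := exists_coeffs hb₀ (fun j => ap i U₀ (ap p U₀ (b₀ j))) hy₀
    let b : Fin n → ModSite.sect H U := fun j => rs H hU (b₀ j)
    have hbg : Gen H b := hb₀.mono _
    have hbi : Indep H b := hbi₀.mono _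
    have hPb : ∀ j, ∑ k, P j k • b k = ap i U (ap p U (b j)) := fun j =>
      (hP j).trans (by simp only [b, ← ap_rs])
    refine ⟨U, Fin n, Fin n, inferInstance, inferInstance, fun j => ap p U (b j),
      fun l j => (if l = j then 1 else 0) - P l j, hy, fun V h t z hz => ?_, fun l => ?_,
      fun V h c hc z hz => ⟨V, le_rfl, hz, ?_⟩⟩
    · obtain ⟨W, hW, c, hzW, hc⟩ := hbg.exists_fun h (ap i V t) hz
      refine ⟨W, hW, hzW, (mem_spanOn_iff _ _ _ _).2 ⟨c, ?_⟩⟩
      have := congrArg (ap p W) hc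
      rw [map_sum, ap_rs, hpi] at this
      rw [← this]
      exact Finset.sum_congr rfl fun k _ => by simp only [map_smul, ap_rs, b, rs_rs]
    · have h1 : ∑ j, P l j • ap p U (b j) = ap p U (b l) := by
        have := congrArg (ap p U) (hPb l)
        rw [map_sum, hpi] at this
        rw [← this]
        exact Finset.sum_congr rfl fun k _ => (map_smul _ _ _).symm
      simp only [sub_smul, Finset.sum_sub_distrib, h1, ite_smul, one_smul, zero_smul,
        Finset.sum_ite_eq, Finset.mem_univ, if_true, sub_self]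
    · have h0 : (fun j => ∑ l, c l * rsR h (P l j)) = 0 := by
        refine hbi h _ ?_
        have := congrArg (ap i V) hc
        rw [map_sum, map_zero] at this
        rw [sum_comb, ← this]
        refine Finset.sum_congr rfl fun l _ => ?_
        rw [map_smul, ap_rs, ← hPb l, rs_sum_smul]
      rw [Submodule.mem_span_range_iff_exists_fun]
      refine ⟨c, funext fun j => ?_⟩
      have h0j : ∑ l, c l * rsR h (P l j) = 0 := congrFun h0 j
      simp only [Finset.sum_apply, Pi.smul_apply, smul_eq_mul, rsR_self, map_sub,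
        apply_ite (rsR h), map_one, map_zero, mul_sub, Finset.sum_sub_distrib]
      rw [h0j]
      simp
  obtain ⟨U₀, n, hx₀, ⟨e⟩⟩ := hH x
  obtain ⟨b, hb, hbi⟩ := exists_basis_of_iso_free H n e
  let B : Module.Basis (Fin n) (stR O x) (stM H x) :=
    Module.Basis.mk (linearIndependent_gm H hx₀ hbi) (fun m _ => by
      obtain ⟨a, rfl⟩ := span_gm_of_gen H hx₀ hb m
      exact Submodule.sum_mem _ fun k _ => Submodule.smul_mem _ _ (Submodule.subset_span ⟨k, rfl⟩))
  haveI : Module.Free (stR O x) (stM H x) := Module.Free.of_basis B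
  haveI : Module.Finite (stR O x) (stM H x) := Module.Finite.of_basis B
  have hst : ∀ m : stM F x,
      (ModSite.stalkMap (pt x) p).hom ((ModSite.stalkMap (pt x) i).hom m) = m := fun m => by
    obtain ⟨V, hV, t, rfl⟩ := exists_gm F x m
    rw [gm_map, gm_map, hpi]
  haveI : Module.Projective (stR O x) (stM F x) :=
    Module.Projective.of_split (ModSite.stalkMap (pt x) i).hom (ModSite.stalkMap (pt x) p).hom
      (LinearMap.ext hst)
  haveI : Module.Finite (stR O x) (stM F x) :=
    Module.Finite.of_surjective (ModSite.stalkMap (pt x) p).hom fun m => ⟨_, hst m⟩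
  haveI := isLocalRing_stR (O := O) x
  haveI : Module.Free (stR O x) (stM F x) := Module.free_of_flat_of_isLocalRing
  obtain ⟨U, hxU, hiso⟩ := exists_free_of_stalk_basis F x (Module.finBasis (stR O x) (stM F x))
  exact ⟨U, _, hxU, hiso⟩

end Groth.Agent.RSFin
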